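import Mathlib

/-!
# Transitive linear groups of order prime to the characteristic: basic counting

A group acting faithfully and linearly on a finite vector space over `ZMod p`, transitively on the
nonzero vectors: orbit counts, a central `-1` from a Sylow subgroup, and centralizers of irreducible
elements.
-/

set_option autoImplicit false
set_option linter.unusedSectionVars false
set_option linter.style.haveILetI false

namespace CfsgLib.Block.ThreeChar

open Module

universe u v

variable {p : ℕ} [Fact p.Prime] {E : Type u} [Group E] [Finite E] {V : Type v} [AddCommGroup V]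
  [Module (ZMod p) V] [Finite V]

/-- Invariance of a submodule under one element. -/
def InvW (ρ : E →* Module.End (ZMod p) V) (g : E) (W : Submodule (ZMod p) V) : Prop :=
  ∀ w ∈ W, ρ g w ∈ W

/-- No proper invariant submodule. -/
def Irred (ρ : E →* Module.End (ZMod p) V) (g : E) : Prop :=
  ∀ W : Submodule (ZMod p) V, InvW ρ g W → W = ⊥ ∨ W = ⊤

/-- The stabilizer of a vector. -/
def stab (ρ : E →* Module.End (ZMod p) V) (v : V) : Subgroup E where
  carrier := {e | ρ e v = v}
  one_mem' := by simp
  mul_mem' {a b} ha hb := by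
    show ρ (a * b) v = v
    rw [map_mul, Module.End.mul_apply]
    rw [show ρ b v = v from hb, show ρ a v = v from ha]
  inv_mem' {a} ha := by
    show ρ a⁻¹ v = v
    conv_lhs => rw [show v = ρ a v from ha.symm]
    rw [← Module.End.mul_apply, ← map_mul, inv_mul_cancel, map_one, Module.End.one_apply]

theorem mem_stab {ρ : E →* Module.End (ZMod p) V} {v : V} {e : E} : e ∈ stab ρ v ↔ ρ e v = v :=
  Iff.rfl

variable (ρ : E →* Module.End (ZMod p) V)

theorem apply_inv_apply (e : E) (v : V) : ρ e⁻¹ (ρ e v) = v := by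
  rw [← Module.End.mul_apply, ← map_mul, inv_mul_cancel, map_one, Module.End.one_apply]

theorem apply_injective (e : E) : Function.Injective (ρ e) :=
  fun a b h => by rw [← apply_inv_apply ρ e a, h, apply_inv_apply]

theorem card_submodule (W : Submodule (ZMod p) V) : Nat.card W = p ^ finrank (ZMod p) W := by
  rw [Module.natCard_eq_pow_finrank (K := ZMod p), Nat.card_zmod]

theorem eq_one_of_inj (hρ : Function.Injective ρ) {e : E} (h : ∀ v, ρ e v = v) : e = 1 :=
  hρ (by rw [map_one]; exact LinearMap.ext h)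

/-- Orbit and stabilizer. -/
theorem card_eq_mul_stab (htrans : ∀ v w : V, v ≠ 0 → w ≠ 0 → ∃ e, ρ e v = w) {v : V} (hv : v ≠ 0) :
    Nat.card E = (Nat.card V - 1) * Nat.card (stab ρ v) := by
  classical
  letI : MulAction E V := MulAction.compHom V ρ
  have horb : MulAction.orbit E v = ({0} : Set V)ᶜ := by
    ext w
    simp only [MulAction.mem_orbit_iff, Set.mem_compl_iff, Set.mem_singleton_iff]
    refine ⟨?_, fun hw => htrans v w hv hw⟩
    rintro ⟨e, rfl⟩ h0
    exact hv (apply_injective ρ e (h0.trans (map_zero (ρ e)).symm))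
  have hi := MulAction.index_stabilizer E v
  rw [horb, Set.ncard_compl, Set.ncard_singleton] at hi
  rw [show stab ρ v = MulAction.stabilizer E v from rfl, ← hi, mul_comm, Subgroup.card_mul_index]

/-- The orbits of a Sylow subgroup on an invariant submodule. -/
theorem pow_dvd_card_sub_one (htrans : ∀ v w : V, v ≠ 0 → w ≠ 0 → ∃ e, ρ e v = w)
    {s : ℕ} [Fact s.Prime] (T : Sylow s E) {W : Submodule (ZMod p) V}
    (hW : ∀ t ∈ (T : Subgroup E), InvW ρ t W) :
    s ^ (Nat.card V - 1).factorization s ∣ Nat.card W - 1 := by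
  classical
  letI : MulAction E V := MulAction.compHom V ρ
  let X : SubMulAction (T : Subgroup E) V :=
    { carrier := {w | w ∈ W ∧ w ≠ 0}
      smul_mem' := fun t w hw => ⟨hW t t.2 w hw.1, fun h => hw.2
        (apply_injective ρ (t : E) (h.trans (map_zero (ρ (t : E))).symm))⟩ }
  have hcardX : Nat.card X = Nat.card W - 1 := by
    have e : X ≃ ↥(({0} : Set W)ᶜ) :=
      { toFun := fun w => ⟨⟨w.1, w.2.1⟩, fun h => w.2.2 (congrArg Subtype.val (Set.mem_singleton_iff.mp h))⟩
        invFun := fun w => ⟨w.1.1, w.1.2, fun h => w.2 (Set.mem_singleton_iff.mpr (Subtype.ext h))⟩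
        left_inv := fun _ => rfl
        right_inv := fun _ => rfl }
    rw [Nat.card_congr e, Nat.card_coe_set_eq, Set.ncard_compl, Set.ncard_singleton]
  rw [← hcardX, Nat.card_congr (MulAction.selfEquivSigmaOrbits (T : Subgroup E) X)]
  haveI := Fintype.ofFinite (MulAction.orbitRel.Quotient (T : Subgroup E) X)
  rw [Nat.card_sigma]
  refine Finset.dvd_sum fun ω _ => ?_
  set x := ω.out with hx
  rw [Nat.card_coe_set_eq, ← MulAction.index_stabilizer (T : Subgroup E) x]
  have hv : (x : V) ≠ 0 := x.2.2
  set S := MulAction.stabilizer (T : Subgroup E) x with hS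
  have hSle : S.map (T : Subgroup E).subtype ≤ stab ρ (x : V) := by
    rintro _ ⟨t, ht, rfl⟩
    exact congrArg Subtype.val (show t • x = x from ht)
  have hScard : Nat.card (S.map (T : Subgroup E).subtype) = Nat.card S :=
    Subgroup.card_map_of_injective (T : Subgroup E).subtype_injective
  have hdvd : Nat.card S ∣ Nat.card (stab ρ (x : V)) := hScard ▸ Subgroup.card_dvd_of_le hSle
  have hT : Nat.card S * S.index = s ^ (Nat.card E).factorization s := by
    rw [Subgroup.card_mul_index, T.card_eq_multiplicity]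
  obtain ⟨i, -, hi⟩ := (Nat.dvd_prime_pow (Fact.out : s.Prime)).mp (Dvd.intro _ hT)
  obtain ⟨j, -, hj⟩ := (Nat.dvd_prime_pow (Fact.out : s.Prime)).mp (Dvd.intro_left _ hT)
  have hEi : i + j = (Nat.card E).factorization s := by
    rw [hi, hj, ← pow_add] at hT
    exact Nat.pow_right_injective (Fact.out : s.Prime).two_le hT
  have hst : i ≤ (Nat.card (stab ρ (x : V))).factorization s :=
    ((Fact.out : s.Prime).pow_dvd_iff_le_factorization Nat.card_pos.ne').mp (hi ▸ hdvd)
  have hq : Nat.card V - 1 ≠ 0 := fun h => by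
    have := card_eq_mul_stab ρ htrans hv
    rw [h, zero_mul] at this
    exact Nat.card_pos.ne' this
  rw [card_eq_mul_stab ρ htrans hv, Nat.factorization_mul hq Nat.card_pos.ne', Finsupp.add_apply] at hEi
  rw [hj]
  exact pow_dvd_pow s (by omega)

/-- A submodule invariant under a Sylow subgroup is trivial when the arithmetic forbids the others. -/
theorem exists_neg_one (hp : p ≠ 2) (hρ : Function.Injective ρ) (hn : 0 < finrank (ZMod p) V)
    (htrans : ∀ v w : V, v ≠ 0 → w ≠ 0 → ∃ e, ρ e v = w)
    (harith : ∀ k, 0 < k → k < finrank (ZMod p) V →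
      ¬ 2 ^ (Nat.card V - 1).factorization 2 ∣ p ^ k - 1) :
    ∃ z : E, ∀ v, ρ z v = -v := by
  classical
  obtain ⟨v, hv⟩ : ∃ v : V, v ≠ 0 := by
    have : Nontrivial V := Module.nontrivial_of_finrank_pos hn
    exact exists_ne 0
  have hV : Nat.card V = p ^ finrank (ZMod p) V := by
    rw [Module.natCard_eq_pow_finrank (K := ZMod p), Nat.card_zmod]
  have hpodd : Odd p := (Fact.out : p.Prime).odd_of_ne_two hp
  have h2 : 2 ∣ Nat.card E := by
    rw [card_eq_mul_stab ρ htrans hv, hV]
    obtain ⟨t, ht⟩ := hpodd.pow (n := finrank (ZMod p) V)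
    exact Dvd.dvd.mul_right ⟨t, by omega⟩ _
  obtain ⟨T⟩ := (inferInstance : Nonempty (Sylow 2 E))
  have hTpos : 0 < (Nat.card E).factorization 2 :=
    Nat.Prime.factorization_pos_of_dvd Nat.prime_two Nat.card_pos.ne' h2
  haveI : Nontrivial (T : Subgroup E) := Finite.one_lt_card_iff_nontrivial.mp (by
    rw [T.card_eq_multiplicity]; exact Nat.one_lt_two_pow hTpos.ne')
  haveI := T.isPGroup'.center_nontrivial
  obtain ⟨⟨z, hzc⟩, hz⟩ : ∃ z : Subgroup.center (T : Subgroup E), orderOf z = 2 := by
    refine exists_prime_orderOf_dvd_card' 2 ?_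
    obtain ⟨j, hj⟩ := IsPGroup.iff_card.mp (T.isPGroup'.to_subgroup (Subgroup.center (T : Subgroup E)))
    have h1 : 1 < Nat.card (Subgroup.center (T : Subgroup E)) := Finite.one_lt_card
    rw [hj]
    exact dvd_pow_self 2 fun h0 => by rw [hj, h0] at h1; simp at h1
  have hz2 : (z : E) * z = 1 := by
    have := pow_orderOf_eq_one (⟨z, hzc⟩ : Subgroup.center (T : Subgroup E))
    rw [hz, pow_two] at this
    exact congrArg (fun w : Subgroup.center (T : Subgroup E) => ((w : (T : Subgroup E)) : E)) this
  have hz1 : (z : E) ≠ 1 := by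
    intro h
    rw [show (⟨z, hzc⟩ : Subgroup.center (T : Subgroup E)) = 1 from Subtype.ext (Subtype.ext h),
      orderOf_one] at hz
    exact absurd hz (by norm_num)
  set F : Submodule (ZMod p) V := LinearMap.eqLocus (ρ (z : E)) LinearMap.id with hF
  have hmemF : ∀ w, w ∈ F ↔ ρ (z : E) w = w := fun w => LinearMap.mem_eqLocus
  have hFinv : ∀ t ∈ (T : Subgroup E), InvW ρ t F := by
    intro t ht w hw
    rw [hmemF] at hw ⊢
    have hcomm : (t : E) * (z : E) = (z : E) * t :=
      congrArg Subtype.val (Subgroup.mem_center_iff.mp hzc ⟨t, ht⟩)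
    rw [← Module.End.mul_apply, ← map_mul, ← hcomm, map_mul, Module.End.mul_apply, hw]
  have hdvd := pow_dvd_card_sub_one ρ htrans T hFinv
  rw [card_submodule] at hdvd
  have hk0 : finrank (ZMod p) F = 0 := by
    by_contra hk
    rcases (Submodule.finrank_le F).lt_or_eq with hlt | heq
    · exact harith _ (Nat.pos_of_ne_zero hk) hlt hdvd
    · refine hz1 (eq_one_of_inj ρ hρ fun w => (hmemF w).mp ?_)
      rw [Submodule.eq_top_of_finrank_eq heq]
      trivial
  refine ⟨z, fun w => ?_⟩
  have hw : w + ρ (z : E) w ∈ F := by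
    rw [hmemF, map_add, ← Module.End.mul_apply, ← map_mul, hz2, map_one, Module.End.one_apply, add_comm]
  rw [Submodule.finrank_eq_zero.mp hk0, Submodule.mem_bot] at hw
  exact eq_neg_of_add_eq_zero_right hw

/-- Fixed points and orbits of one element of prime order. -/
theorem card_modEq_fixed {s : ℕ} [Fact s.Prime] {g : E} (hg : orderOf g = s)
    {W : Submodule (ZMod p) V} (hW : InvW ρ g W) :
    Nat.card W ≡ Nat.card (W ⊓ LinearMap.eqLocus (ρ g) LinearMap.id : Submodule (ZMod p) V) [MOD s] := by
  classical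
  letI : MulAction E V := MulAction.compHom V ρ
  let S : Subgroup E :=
    { carrier := {e | ∀ w, w ∈ W ↔ ρ e w ∈ W}
      one_mem' := fun w => by simp
      mul_mem' := fun {a b} ha hb w => by rw [map_mul, Module.End.mul_apply]; exact (hb w).trans (ha _)
      inv_mem' := fun {a} ha w => by
        rw [ha (ρ a⁻¹ w), ← Module.End.mul_apply, ← map_mul, mul_inv_cancel, map_one, Module.End.one_apply] }
  have hgS : g ∈ S := by
    let f : W → W := fun w => ⟨ρ g w, hW w w.2⟩
    have hsurj : Function.Surjective f := Finite.surjective_of_injective fun a b h =>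
      Subtype.ext (apply_injective ρ g (congrArg Subtype.val h))
    intro w
    refine ⟨hW w, fun h => ?_⟩
    obtain ⟨a, ha⟩ := hsurj ⟨_, h⟩
    rw [← apply_injective ρ g (congrArg Subtype.val ha)]
    exact a.2
  have hle : Subgroup.zpowers g ≤ S := Subgroup.zpowers_le.mpr hgS
  let X : SubMulAction (Subgroup.zpowers g) V :=
    { carrier := W
      smul_mem' := fun t w hw => (hle t.2 w).mp hw }
  have hP : IsPGroup s (Subgroup.zpowers g) :=
    IsPGroup.of_card (n := 1) (by rw [Nat.card_zpowers, hg, pow_one])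
  have h := hP.card_modEq_card_fixedPoints (α := X)
  rw [show Nat.card X = Nat.card W from rfl] at h
  refine h.trans (congrArg (· % s) ?_)
  refine Nat.card_congr
    { toFun := fun x => ⟨x.1.1, x.1.2, LinearMap.mem_eqLocus.mpr
        (congrArg Subtype.val (x.2 ⟨g, Subgroup.mem_zpowers g⟩))⟩
      invFun := fun w => ⟨⟨w.1, w.2.1⟩, fun t => Subtype.ext ?_⟩
      left_inv := fun _ => rfl
      right_inv := fun _ => rfl }
  have hgst : g ∈ stab ρ w.1 := LinearMap.mem_eqLocus.mp w.2.2
  exact (Subgroup.zpowers_le.mpr hgst) t.2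

/-- An element of primitive prime order is irreducible. -/
theorem irred_of_prim (hρ : Function.Injective ρ) {s : ℕ} [Fact s.Prime] {g : E} (hg : orderOf g = s)
    (hsp : s ≠ p) (hprim : ∀ k, 0 < k → k < finrank (ZMod p) V → ¬ s ∣ p ^ k - 1) : Irred ρ g := by
  classical
  have hp1 : 1 ≤ p := (Fact.out : p.Prime).one_le
  have hcop : ∀ k, s.Coprime (p ^ k) := fun k =>
    ((Nat.coprime_primes Fact.out Fact.out).mpr hsp).pow_right k
  set F : Submodule (ZMod p) V := LinearMap.eqLocus (ρ g) LinearMap.id with hF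
  have hF0 : F = ⊥ := by
    have h := card_modEq_fixed ρ hg (W := ⊤) (fun _ _ => trivial)
    rw [top_inf_eq, ← hF, card_submodule, card_submodule, finrank_top] at h
    have hkn := Submodule.finrank_le F
    rcases Nat.eq_zero_or_pos (finrank (ZMod p) F) with h0 | h0
    · exact Submodule.finrank_eq_zero.mp h0
    exfalso
    rcases hkn.lt_or_eq with hlt | heq
    · set k := finrank (ZMod p) F
      set n := finrank (ZMod p) V
      have h1 : s ∣ p ^ n - p ^ k := (Nat.modEq_iff_dvd' (Nat.pow_le_pow_right hp1 hlt.le)).mp h.symm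
      rw [show p ^ n - p ^ k = p ^ k * (p ^ (n - k) - 1) by
        rw [Nat.mul_sub, mul_one, ← pow_add, Nat.add_sub_cancel' hlt.le]] at h1
      exact hprim (n - k) (by omega) (by omega) ((hcop k).dvd_of_dvd_mul_left h1)
    · have h1 : g = 1 := eq_one_of_inj ρ hρ fun w =>
        LinearMap.mem_eqLocus.mp (show w ∈ F by rw [Submodule.eq_top_of_finrank_eq heq]; trivial)
      rw [h1, orderOf_one] at hg
      exact (Fact.out : s.Prime).ne_one hg.symm
  intro W hW
  have h := card_modEq_fixed ρ hg hW
  rw [← hF, hF0, inf_bot_eq, card_submodule, card_submodule, finrank_bot, pow_zero] at h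
  rcases Nat.eq_zero_or_pos (finrank (ZMod p) W) with h0 | h0
  · exact Or.inl (Submodule.finrank_eq_zero.mp h0)
  rcases (Submodule.finrank_le W).lt_or_eq with hlt | heq
  · exact absurd ((Nat.modEq_iff_dvd' (Nat.one_le_pow _ _ hp1)).mp h.symm) (hprim _ h0 hlt)
  · exact Or.inr (Submodule.eq_top_of_finrank_eq heq)

/-- The commutant of an irreducible element is a field. -/
theorem isField_commutant [Nontrivial V] {g : E} (hirr : Irred ρ g) :
    IsField (Subalgebra.centralizer (ZMod p) ({ρ g} : Set (Module.End (ZMod p) V))) := by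
  classical
  set K := Subalgebra.centralizer (ZMod p) ({ρ g} : Set (Module.End (ZMod p) V)) with hK
  haveI : Finite (Module.End (ZMod p) V) := Finite.of_injective (fun f => (f : V → V)) DFunLike.coe_injective
  have hinj : ∀ f : K, f ≠ 0 → Function.Injective (f : Module.End (ZMod p) V) := by
    intro f hf
    have hfg := Subalgebra.mem_centralizer_iff (ZMod p) |>.mp f.2 (ρ g) rfl
    rcases hirr (LinearMap.ker (f : Module.End (ZMod p) V)) (fun w hw => by
      rw [LinearMap.mem_ker] at hw ⊢
      rw [← Module.End.mul_apply, ← hfg, Module.End.mul_apply, hw, map_zero]) with h | h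
    · exact LinearMap.ker_eq_bot.mp h
    · exact absurd (Subtype.ext (LinearMap.ker_eq_top.mp h)) hf
  haveI : NoZeroDivisors K := ⟨fun {a b} hab => by
    by_contra h
    push Not at h
    apply h.2
    refine Subtype.ext (LinearMap.ext fun w => hinj a h.1 ?_)
    rw [← Module.End.mul_apply, ← Subalgebra.coe_mul, hab]
    simp⟩
  haveI : IsDomain K := NoZeroDivisors.to_isDomain K
  exact Finite.isDomain_to_isField K

/-- Inclusion of a centralizer in the commutant. -/
def centHom (g : E) : Subgroup.centralizer ({g} : Set E) →*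
    Subalgebra.centralizer (ZMod p) ({ρ g} : Set (Module.End (ZMod p) V)) where
  toFun e := ⟨ρ (e : E), (Subalgebra.mem_centralizer_iff (ZMod p)).mpr fun x hx => by
    rw [Set.mem_singleton_iff.mp hx, ← map_mul, ← map_mul,
      Subgroup.mem_centralizer_singleton_iff.mp e.2]⟩
  map_one' := Subtype.ext (map_one ρ)
  map_mul' a b := Subtype.ext (map_mul ρ _ _)

theorem centHom_injective (hρ : Function.Injective ρ) (g : E) : Function.Injective (centHom ρ g) :=
  fun _ _ h => Subtype.ext (hρ (congrArg Subtype.val h))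

theorem isCyclic_centralizer [Nontrivial V] (hρ : Function.Injective ρ) {g : E} (hirr : Irred ρ g) :
    IsCyclic (Subgroup.centralizer ({g} : Set E)) := by
  letI := (isField_commutant ρ hirr).toField
  exact isCyclic_of_injective_ringHom (centHom ρ g) (centHom_injective ρ hρ g)

/-- The conjugates of an irreducible element inside its centralizer are at most the dimension. -/
theorem card_conjugates_le [Nontrivial V] (hρ : Function.Injective ρ) {g : E} (hirr : Irred ρ g)
    (S : Finset E) (hS : ∀ x ∈ S, Commute g x ∧ IsConj g x) : S.card ≤ finrank (ZMod p) V := by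
  classical
  set K := Subalgebra.centralizer (ZMod p) ({ρ g} : Set (Module.End (ZMod p) V))
  letI := (isField_commutant ρ hirr).toField
  set P := LinearMap.charpoly (ρ g) with hP
  have hroot : ∀ x ∈ S, Polynomial.aeval (ρ x) P = 0 := by
    intro x hx
    obtain ⟨h, rfl⟩ := isConj_iff.mp (hS x hx).2
    let e : V ≃ₗ[ZMod p] V :=
      { ρ h with
        invFun := ρ h⁻¹
        left_inv := apply_inv_apply ρ h
        right_inv := fun w => by simpa using apply_inv_apply ρ h⁻¹ w }
    have hx : ρ (h * g * h⁻¹) = e.conjAlgEquiv (ZMod p) (ρ g) := by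
      refine LinearMap.ext fun w => ?_
      rw [map_mul, map_mul]
      rfl
    rw [hx, Polynomial.aeval_algEquiv, AlgHom.comp_apply, LinearMap.aeval_self_charpoly]
    exact map_zero _
  let f : S → K := fun x => ⟨ρ (x : E), (Subalgebra.mem_centralizer_iff (ZMod p)).mpr fun y hy => by
    rw [Set.mem_singleton_iff.mp hy, ← map_mul, ← map_mul, (hS x x.2).1.eq]⟩
  have hf : Function.Injective f := fun a b h => Subtype.ext (hρ (congrArg Subtype.val h))
  set Q := P.map (algebraMap (ZMod p) K) with hQ
  have hQ0 : Q ≠ 0 := ((LinearMap.charpoly_monic (ρ g)).map _).ne_zero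
  have hsub : Finset.univ.image f ⊆ Q.roots.toFinset := by
    intro y hy
    obtain ⟨x, -, rfl⟩ := Finset.mem_image.mp hy
    rw [Multiset.mem_toFinset, Polynomial.mem_roots hQ0, Polynomial.IsRoot, hQ, Polynomial.eval_map,
      ← Polynomial.aeval_def]
    apply Subtype.val_injective
    show K.val (Polynomial.aeval (f x) P) = ((0 : K) : Module.End (ZMod p) V)
    rw [← Polynomial.aeval_algHom_apply]
    exact hroot x x.2
  have h1 := Finset.card_le_card hsub
  rw [Finset.card_image_of_injective _ hf, Finset.card_univ, Fintype.card_coe] at h1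
  refine h1.trans ((Multiset.toFinset_card_le _).trans ((Polynomial.card_roots' Q).trans ?_))
  rw [hQ, Polynomial.natDegree_map, hP, LinearMap.charpoly_natDegree]

/-- An invariant line gives an eigenvalue. -/
theorem exists_eigen {g : E} {W : Submodule (ZMod p) V} (hW : InvW ρ g W)
    (h1 : finrank (ZMod p) W = 1) :
    ∃ (c : ZMod p) (w : V), w ∈ W ∧ w ≠ 0 ∧ (∀ x ∈ W, ρ g x = c • x) := by
  obtain ⟨v, hv, hall⟩ := finrank_eq_one_iff'.mp h1
  obtain ⟨c, hc⟩ := hall ⟨ρ g v, hW v v.2⟩
  refine ⟨c, v, v.2, fun h => hv (Subtype.ext h), fun x hx => ?_⟩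
  obtain ⟨a, ha⟩ := hall ⟨x, hx⟩
  have ha' : a • (v : V) = x := congrArg Subtype.val ha
  have hc' : c • (v : V) = ρ g v := congrArg Subtype.val hc
  rw [← ha', map_smul, ← hc', smul_comm]

end CfsgLib.Block.ThreeChar
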