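import Cfsg.Agent.Lib.Char.FullyRamifiedBasic
import Cfsg.Agent.Lib.Block.CyclicCoset
import Cfsg.Agent.Lib.Block.NormalDefect

/-!
# Good classes over an invariant character

An element of the quotient is good if some character over the invariant character does not vanish
on its coset.  The good classes are at most as many as the characters over it; elements with cyclic
centralizers are good; if no nonidentity element of prime power order is good, the exponent of that
prime in the index is even.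
-/

set_option autoImplicit false
set_option linter.unusedSectionVars false
set_option linter.style.haveILetI false

namespace CfsgLib.Block.ThreeChar

open Cfsg CfsgLib CfsgLib.Char CfsgLib.Char.FullyRam
open scoped ComplexConjugate

universe u

variable {Γ : Type u} [Group Γ] [Fintype Γ] {K : Subgroup Γ} [K.Normal] [Fintype K]

/-- Some character over `θ` does not vanish on the coset. -/
def GoodQ (θ : IrrCharacter K) (e : Γ ⧸ K) : Prop :=
  ∃ χ : IrrCharacter Γ, Over χ θ ∧ ∃ g : Γ, (g : Γ ⧸ K) = e ∧ (χ : Γ → ℂ) g ≠ 0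

theorem exists_mult {θ : IrrCharacter K} (hinv : ∀ g : Γ, Char.conjFun K (θ : K → ℂ) g = θ)
    {χ : IrrCharacter Γ} (h : Over χ θ) :
    ∃ e : ℕ, e ≠ 0 ∧ classInner (fun k : K => (χ : Γ → ℂ) k) (θ : K → ℂ) = e ∧
      (∀ k : K, (χ : Γ → ℂ) k = (e : ℂ) * (θ : K → ℂ) k) := by
  obtain ⟨e, he, h1, h2⟩ := restrict_eq_smul_of_invariant K χ.2 θ.2 h hinv
  exact ⟨e, he, h1, fun k => congrFun h2 k⟩

open scoped Classical in
/-- The multiplicity of `θ` in a restriction. -/
noncomputable def multOver (θ : IrrCharacter K) (χ : IrrCharacter Γ) : ℕ :=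
  Nat.floor (classInner (fun k : K => (χ : Γ → ℂ) k) (θ : K → ℂ)).re

theorem multOver_eq (θ : IrrCharacter K) (χ : IrrCharacter Γ) :
    classInner (fun k : K => (χ : Γ → ℂ) k) (θ : K → ℂ) = multOver θ χ := by
  obtain ⟨m, hm⟩ := classInner_char_irr_nat (isCharacter_comp (isCharacter_irr χ) K.subtype) θ
  have hm' : classInner (fun k : K => (χ : Γ → ℂ) k) (θ : K → ℂ) = m := hm
  rw [multOver, hm', Complex.natCast_re, Nat.floor_natCast]

theorem over_iff (θ : IrrCharacter K) (χ : IrrCharacter Γ) : Over χ θ ↔ multOver θ χ ≠ 0 := by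
  rw [Over, multOver_eq, Nat.cast_ne_zero]

theorem res_eq {θ : IrrCharacter K} (hinv : ∀ g : Γ, Char.conjFun K (θ : K → ℂ) g = θ)
    {χ : IrrCharacter Γ} (h : Over χ θ) (k : K) :
    (χ : Γ → ℂ) k = (multOver θ χ : ℂ) * (θ : K → ℂ) k := by
  obtain ⟨e, -, he, hres⟩ := exists_mult hinv h
  rw [multOver_eq, Nat.cast_inj] at he
  rw [he]
  exact hres k

/-- The index is the sum of the squares of the multiplicities. -/
theorem index_eq_sum [Fintype (IrrCharacter Γ)] {θ : IrrCharacter K}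
    (hinv : ∀ g : Γ, Char.conjFun K (θ : K → ℂ) g = θ) :
    ∑ χ : IrrCharacter Γ, multOver θ χ ^ 2 = K.index := by
  have h := congrFun (classFun_expand (isClassFunction_indFun K (θ : K → ℂ))) 1
  simp only [Finset.sum_apply, Pi.smul_apply, smul_eq_mul, Char.indFun_one] at h
  rw [Finset.sum_congr rfl (g := fun χ : IrrCharacter Γ =>
    (θ : K → ℂ) 1 * ((multOver θ χ ^ 2 : ℕ) : ℂ)) fun χ _ => ?_, ← Finset.mul_sum] at h
  · have h1 := Char.irr_one_ne_zero θ
    have h2 : (K.index : ℂ) = ((∑ χ : IrrCharacter Γ, multOver θ χ ^ 2 : ℕ) : ℂ) := by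
      rw [Nat.cast_sum]
      exact mul_left_cancel₀ h1 ((mul_comm _ _).trans h)
    exact_mod_cast h2.symm
  rw [classInner_indFun K _ _ (isClassFunction_irr χ), ← classInner_conj, multOver_eq, map_natCast]
  rcases Nat.eq_zero_or_pos (multOver θ χ) with h0 | h0
  · simp [h0]
  · have := res_eq hinv ((over_iff θ χ).mpr h0.ne') 1
    rw [OneMemClass.coe_one] at this
    rw [this]
    push_cast
    ring

/-- A character over `θ` and one not over it are orthogonal on every coset. -/
theorem coset_orth {θ : IrrCharacter K} (hinv : ∀ g : Γ, Char.conjFun K (θ : K → ℂ) g = θ)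
    {χ η : IrrCharacter Γ} (hχ : Over χ θ) (hη : ¬ Over η θ) (g : Γ) :
    cosetAvg K (fun x => (χ : Γ → ℂ) x * conj ((η : Γ → ℂ) x)) g = 0 := by
  refine congrFun (eq_zero_of_char_one_eq_zero (isCharacter_cosetAvg K
    (isCharacter_mul (isCharacter_irr χ) (isCharacter_conj (isCharacter_irr η)))) ?_) g
  refine (cosetAvg_one_eq K (χ : Γ → ℂ) (η : Γ → ℂ)).trans ?_
  rw [show (fun k : K => (χ : Γ → ℂ) k) = (multOver θ χ : ℂ) • (θ : K → ℂ) from funext (res_eq hinv hχ),
    classInner_smul_left, ← classInner_conj, multOver_eq, Nat.cast_inj.mpr (not_not.mp ((over_iff θ η).not.mp hη))]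
  simp

/-- The good classes are at most as many as the characters over `θ`. -/
theorem card_le_over [Fintype (IrrCharacter Γ)] {θ : IrrCharacter K}
    (hinv : ∀ g : Γ, Char.conjFun K (θ : K → ℂ) g = θ)
    {ι : Type} [Fintype ι] (e : ι → Γ ⧸ K) (hgood : ∀ i, GoodQ θ (e i))
    (hdist : ∀ i j, IsConj (e i) (e j) → i = j) :
    Fintype.card ι ≤ Nat.card {χ : IrrCharacter Γ // Over χ θ} := by
  classical
  choose c hc g hg hne using hgood
  set Fn : ι → Γ → ℂ := fun i x => if IsConj (e i) (x : Γ ⧸ K) then (c i : Γ → ℂ) x else 0 with hFn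
  have hcl : ∀ i, IsClassFunction Γ (Fn i) := fun i x y => by
    have hiff : IsConj (e i) ((y * x * y⁻¹ : Γ) : Γ ⧸ K) ↔ IsConj (e i) (x : Γ ⧸ K) := by
      have hconj : IsConj (x : Γ ⧸ K) ((y * x * y⁻¹ : Γ) : Γ ⧸ K) :=
        isConj_iff.mpr ⟨(y : Γ ⧸ K), rfl⟩
      exact ⟨fun h => h.trans hconj.symm, fun h => h.trans hconj⟩
    simp only [hFn, hiff, isClassFunction_irr (c i) x y]
  have hspan : ∀ i, Fn i ∈ Submodule.span ℂ
      (Set.range fun χ : {χ : IrrCharacter Γ // Over χ θ} => ((χ : IrrCharacter Γ) : Γ → ℂ)) := by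
    intro i
    rw [classFun_expand (hcl i)]
    refine Submodule.sum_mem _ fun η _ => ?_
    by_cases hη : Over η θ
    · exact Submodule.smul_mem _ _ (Submodule.subset_span ⟨⟨η, hη⟩, rfl⟩)
    rw [show classInner (Fn i) (η : Γ → ℂ) = 0 from ?_, zero_smul]
    · exact Submodule.zero_mem _
    have hconst : ∀ (n : K) (x : Γ), (if IsConj (e i) (((n : Γ) * x : Γ) : Γ ⧸ K) then (1 : ℂ) else 0) =
        if IsConj (e i) (x : Γ ⧸ K) then 1 else 0 := fun n x => by
      rw [QuotientGroup.mk_mul, (QuotientGroup.eq_one_iff (n : Γ)).mpr n.2, one_mul]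
    rw [classInner, show (fun x : Γ => Fn i x * conj ((η : Γ → ℂ) x)) =
      (fun x => (c i : Γ → ℂ) x * conj ((η : Γ → ℂ) x)) *
        (fun x : Γ => if IsConj (e i) (x : Γ ⧸ K) then (1 : ℂ) else 0) from funext fun x => by
        simp only [hFn, Pi.mul_apply]; split_ifs <;> ring,
      ← sum_cosetAvg (N := K), cosetAvg_mul_const K _ hconst]
    simp [coset_orth hinv (hc i) hη]
  have hli : LinearIndependent ℂ Fn := by
    rw [Fintype.linearIndependent_iff]
    intro a ha i
    have h := congrFun ha (g i)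
    simp only [Finset.sum_apply, Pi.smul_apply, smul_eq_mul, Pi.zero_apply, hFn, hg] at h
    rw [Finset.sum_eq_single i (fun j _ hj => by rw [if_neg fun hcj => hj (hdist j i hcj), mul_zero])
      (by simp), if_pos (IsConj.refl _)] at h
    exact (mul_eq_zero.mp h).resolve_right (hne i)
  set W := Submodule.span ℂ
    (Set.range fun χ : {χ : IrrCharacter Γ // Over χ θ} => ((χ : IrrCharacter Γ) : Γ → ℂ))
  have hli' : LinearIndependent ℂ (fun i => (⟨Fn i, hspan i⟩ : W)) :=
    LinearIndependent.of_comp W.subtype hli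
  have hfr : Fintype.card ι ≤ Module.finrank ℂ W := hli'.fintype_card_le_finrank
  refine hfr.trans ((finrank_range_le_card
    (fun χ : {χ : IrrCharacter Γ // Over χ θ} => ((χ : IrrCharacter Γ) : Γ → ℂ))).trans ?_)
  rw [Nat.card_eq_fintype_card]

theorem exists_over [Fintype (IrrCharacter Γ)] {θ : IrrCharacter K}
    (hinv : ∀ g : Γ, Char.conjFun K (θ : K → ℂ) g = θ) : ∃ χ : IrrCharacter Γ, Over χ θ := by
  by_contra h
  push Not at h
  have := index_eq_sum hinv
  rw [Finset.sum_eq_zero fun χ _ => by rw [not_not.mp ((over_iff θ χ).not.mp (h χ)), zero_pow two_ne_zero]] at this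
  exact Subgroup.index_ne_zero_of_finite this.symm

theorem good_one [Fintype (IrrCharacter Γ)] {θ : IrrCharacter K}
    (hinv : ∀ g : Γ, Char.conjFun K (θ : K → ℂ) g = θ) : GoodQ θ 1 := by
  obtain ⟨χ, hχ⟩ := exists_over hinv
  exact ⟨χ, hχ, 1, rfl, Char.irr_one_ne_zero χ⟩

/-- The transported character on a larger subgroup. -/
theorem isIrr_transport (θ : IrrCharacter K) {U : Subgroup Γ} (hKU : K ≤ U) :
    IsIrrCharacter (K.subgroupOf U) fun x => (θ : K → ℂ) (Subgroup.subgroupOfEquivOfLe hKU x) :=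
  isIrrCharacter_comp_surjective θ.2 (Subgroup.subgroupOfEquivOfLe hKU).toMonoidHom
    (Subgroup.subgroupOfEquivOfLe hKU).surjective

theorem transport_inv {θ : IrrCharacter K} (hinv : ∀ g : Γ, Char.conjFun K (θ : K → ℂ) g = θ)
    {U : Subgroup Γ} (hKU : K ≤ U) (g : U) :
    Char.conjFun (K.subgroupOf U)
      (fun x => (θ : K → ℂ) (Subgroup.subgroupOfEquivOfLe hKU x)) g =
      fun x => (θ : K → ℂ) (Subgroup.subgroupOfEquivOfLe hKU x) :=
  funext fun x => congrFun (hinv g) (Subgroup.subgroupOfEquivOfLe hKU x)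

/-- An element with cyclic centralizer is good. -/
theorem good_of_cyclic [Fintype (IrrCharacter Γ)] {θ : IrrCharacter K}
    (hinv : ∀ g : Γ, Char.conjFun K (θ : K → ℂ) g = θ) {e : Γ ⧸ K}
    (hcyc : IsCyclic (Subgroup.centralizer ({e} : Set (Γ ⧸ K)))) : GoodQ θ e := by
  classical
  set U : Subgroup Γ := (Subgroup.centralizer ({e} : Set (Γ ⧸ K))).comap (QuotientGroup.mk' K) with hU
  have hKU : K ≤ U := fun k hk => by
    rw [hU, Subgroup.mem_comap, QuotientGroup.mk'_apply, (QuotientGroup.eq_one_iff k).mpr hk]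
    exact one_mem _
  obtain ⟨⟨c, hc⟩, hgen⟩ := hcyc.exists_generator
  obtain ⟨v, rfl⟩ := QuotientGroup.mk_surjective c
  let u : U := ⟨v, hc⟩
  haveI := Fintype.ofFinite (K.subgroupOf U)
  set K' : Subgroup U := K.subgroupOf U with hK'
  have hK'mem : ∀ x : U, x ∈ K' ↔ ((x : Γ) : Γ ⧸ K) = 1 := fun x => by
    rw [hK', Subgroup.mem_subgroupOf, QuotientGroup.eq_one_iff]
  have htop : K' ⊔ Subgroup.zpowers u = ⊤ := by
    rw [eq_top_iff]
    intro x _
    obtain ⟨i, hi⟩ := hgen ⟨((x : Γ) : Γ ⧸ K), x.2⟩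
    have hi' : ((v : Γ) : Γ ⧸ K) ^ i = ((x : Γ) : Γ ⧸ K) := congrArg Subtype.val hi
    have h : x * (u ^ i)⁻¹ ∈ K' := by
      rw [hK'mem, Subgroup.coe_mul, Subgroup.coe_inv, Subgroup.coe_zpow, QuotientGroup.mk_mul,
        QuotientGroup.mk_inv, QuotientGroup.mk_zpow, hi', mul_inv_cancel]
    rw [← inv_mul_cancel_right x (u ^ i)]
    exact Subgroup.mul_mem_sup h ⟨i, rfl⟩
  obtain ⟨α, hα⟩ := CyclicCoset.exists_extension (K := K') (x := u) htop ⟨_, isIrr_transport θ hKU⟩
    fun k => congrFun (transport_inv hinv hKU u) k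
  have hαirr : IsIrrCharacter K' fun k : K' => (α : U → ℂ) k := by
    rw [show (fun k : K' => (α : U → ℂ) k) = fun k => (θ : K → ℂ) (Subgroup.subgroupOfEquivOfLe hKU k)
      from funext hα]
    exact isIrr_transport θ hKU
  obtain ⟨w, hwe⟩ := QuotientGroup.mk_surjective e
  have hwU : w ∈ U := by
    rw [hU, Subgroup.mem_comap, QuotientGroup.mk'_apply, hwe, Subgroup.mem_centralizer_singleton_iff]
  obtain ⟨k₀, hk₀⟩ : ∃ k : K', (α : U → ℂ) ((k : U) * ⟨w, hwU⟩) ≠ 0 := by
    by_contra hno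
    push Not at hno
    have h1 := congrFun (cosetAvg_self_eq_one K' α hαirr) ⟨w, hwU⟩
    simp [cosetAvg, hno] at h1
  set f : U → ℂ := fun x => if ((x : Γ) : Γ ⧸ K) = e then (α : U → ℂ) x else 0 with hf
  have hcen : ∀ y : U, (y : Γ ⧸ K) * e * (y : Γ ⧸ K)⁻¹ = e := fun y => by
    rw [mul_inv_eq_iff_eq_mul]
    exact Subgroup.mem_centralizer_singleton_iff.mp y.2
  -- suppose all characters over `θ` vanish on the coset
  by_contra hbad
  have hperp : ∀ η : IrrCharacter Γ, classInner (indFun U f) (η : Γ → ℂ) = 0 := by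
    intro η
    rw [classInner_indFun U f _ (isClassFunction_irr η)]
    by_cases hη : Over η θ
    · rw [classInner, Finset.sum_eq_zero fun x _ => ?_, mul_zero]
      simp only [hf]
      split_ifs with hx
      · have : (η : Γ → ℂ) (x : Γ) = 0 := by_contra fun h => hbad ⟨η, hη, x, hx, h⟩
        simp [this]
      · simp
    have hres : classInner (fun k : K' => (η : Γ → ℂ) ((k : U) : Γ))
        (fun k : K' => (θ : K → ℂ) (Subgroup.subgroupOfEquivOfLe hKU k)) = 0 := by
      rw [← not_ne_iff]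
      intro hne
      refine hη ?_
      rw [Over]
      rw [← classInner_equiv (Subgroup.subgroupOfEquivOfLe hKU)]
      exact hne
    have horth : ∀ x : U, cosetAvg K' (fun y : U => (η : Γ → ℂ) y * conj ((α : U → ℂ) y)) x = 0 :=
      fun x => congrFun (eq_zero_of_char_one_eq_zero (isCharacter_cosetAvg K'
        (isCharacter_mul (isCharacter_comp (isCharacter_irr η) U.subtype)
          (isCharacter_conj (isCharacter_irr α))))
        ((cosetAvg_one_eq K' (fun y : U => (η : Γ → ℂ) y) (α : U → ℂ)).trans (by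
          rw [show (fun k : K' => (α : U → ℂ) k) = fun k => (θ : K → ℂ) (Subgroup.subgroupOfEquivOfLe hKU k)
            from funext hα]
          exact hres))) x
    have hconst : ∀ (n : K') (x : U), (if (((n : U) * x : U) : Γ ⧸ K) = e then (1 : ℂ) else 0) =
        if ((x : Γ) : Γ ⧸ K) = e then 1 else 0 := fun n x => by
      rw [Subgroup.coe_mul, QuotientGroup.mk_mul, (hK'mem n).mp n.2, one_mul]
    rw [← classInner_conj, classInner, show (fun x : U => (η : Γ → ℂ) x * conj (f x)) =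
      (fun y : U => (η : Γ → ℂ) y * conj ((α : U → ℂ) y)) *
        (fun x : U => if ((x : Γ) : Γ ⧸ K) = e then (1 : ℂ) else 0) from funext fun x => by
        simp only [hf, Pi.mul_apply]; split_ifs <;> simp,
      ← sum_cosetAvg (N := K'), cosetAvg_mul_const K' _ hconst]
    simp [horth]
  have hzero := congrFun (classFun_eq_zero_of_perp (isClassFunction_indFun U f) hperp)
    (((k₀ : U) * ⟨w, hwU⟩ : U) : Γ)
  set g₀ : U := (k₀ : U) * ⟨w, hwU⟩ with hg₀
  have hg₀e : ((g₀ : Γ) : Γ ⧸ K) = e := by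
    rw [hg₀, Subgroup.coe_mul, QuotientGroup.mk_mul, (hK'mem k₀).mp k₀.2, one_mul, hwe]
  have hval : ∀ x : Γ, extendByZero U f (x⁻¹ * (g₀ : Γ) * x) = if x ∈ U then (α : U → ℂ) g₀ else 0 := by
    intro x
    by_cases hx : x ∈ U
    · have hm : x⁻¹ * (g₀ : Γ) * x ∈ U := mul_mem (mul_mem (inv_mem hx) g₀.2) hx
      rw [extendByZero, show x⁻¹ * (g₀ : Γ) * x = ((⟨_, hm⟩ : U) : Γ) from rfl,
        Subtype.val_injective.extend_apply, if_pos hx]
      have he' : ((x⁻¹ * (g₀ : Γ) * x : Γ) : Γ ⧸ K) = e := by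
        have := hcen (⟨x, hx⟩ : U)⁻¹
        rw [Subgroup.coe_inv, QuotientGroup.mk_inv, inv_inv] at this
        rw [QuotientGroup.mk_mul, QuotientGroup.mk_mul, QuotientGroup.mk_inv, hg₀e]
        exact this
      simp only [hf, he', if_true]
      have hc := isClassFunction_irr α g₀ (⟨x, hx⟩ : U)⁻¹
      rw [inv_inv] at hc
      exact hc
    · rw [if_neg hx, extendByZero]
      by_cases hm : x⁻¹ * (g₀ : Γ) * x ∈ U
      · rw [show x⁻¹ * (g₀ : Γ) * x = ((⟨_, hm⟩ : U) : Γ) from rfl, Subtype.val_injective.extend_apply]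
        simp only [hf]
        rw [if_neg]
        intro he'
        apply hx
        rw [hU, Subgroup.mem_comap, QuotientGroup.mk'_apply, Subgroup.mem_centralizer_singleton_iff]
        rw [QuotientGroup.mk_mul, QuotientGroup.mk_mul, QuotientGroup.mk_inv, hg₀e, mul_assoc,
          inv_mul_eq_iff_eq_mul] at he'
        exact he'.symm
      · exact Function.extend_apply' _ _ _ fun ⟨y, hy⟩ => hm (hy ▸ y.2)
  rw [indFun, Finset.sum_congr rfl fun x _ => hval x, ← Finset.sum_filter, Finset.sum_const,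
    nsmul_eq_mul, Pi.zero_apply] at hzero
  have hcard : (Finset.univ.filter fun x : Γ => x ∈ U).card = Nat.card U := by
    rw [Nat.card_eq_fintype_card, Fintype.card_subtype]
  rw [hcard, inv_mul_cancel_left₀ (Nat.cast_ne_zero.mpr Nat.card_pos.ne')] at hzero
  exact hk₀ hzero

/-- If no nonidentity element of `s`-power order is good, the exponent of `s` in the index is even. -/
theorem even_of_bad [Fintype (IrrCharacter Γ)] {θ : IrrCharacter K}
    (hinv : ∀ g : Γ, Char.conjFun K (θ : K → ℂ) g = θ) {s : ℕ} (hs : s.Prime)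
    (hbad : ∀ e : Γ ⧸ K, e ≠ 1 → (∃ k, orderOf e = s ^ k) → ¬ GoodQ θ e) :
    Even (K.index.factorization s) := by
  classical
  haveI : Fact s.Prime := ⟨hs⟩
  obtain ⟨S⟩ := (inferInstance : Nonempty (Sylow s (Γ ⧸ K)))
  set U : Subgroup Γ := (S : Subgroup (Γ ⧸ K)).comap (QuotientGroup.mk' K) with hU
  have hKU : K ≤ U := fun k hk => by
    rw [hU, Subgroup.mem_comap, QuotientGroup.mk'_apply, (QuotientGroup.eq_one_iff k).mpr hk]
    exact one_mem _
  haveI := Fintype.ofFinite (K.subgroupOf U)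
  haveI := Fintype.ofFinite (IrrCharacter U)
  set v := K.index.factorization s with hv
  have hidx : (K.subgroupOf U).index = s ^ v := by
    show K.relIndex U = _
    have h := Subgroup.relIndex_comap (⊥ : Subgroup (Γ ⧸ K)) (QuotientGroup.mk' K) U
    rw [MonoidHom.comap_bot, QuotientGroup.ker_mk', Subgroup.relIndex_bot_left, hU,
      Subgroup.map_comap_eq_self_of_surjective (QuotientGroup.mk'_surjective K), S.card_eq_multiplicity,
      ← Subgroup.index_eq_card] at h
    exact h
  set θ' : IrrCharacter (K.subgroupOf U) := ⟨_, isIrr_transport θ hKU⟩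
  have hinv' : ∀ g : U, Char.conjFun (K.subgroupOf U) (θ' : K.subgroupOf U → ℂ) g = θ' :=
    transport_inv hinv hKU
  obtain ⟨ψ, hψ⟩ := exists_over hinv'
  have hψe := res_eq hinv' hψ
  set e := multOver θ' ψ with he
  have he0 : e ≠ 0 := (over_iff θ' ψ).mp hψ
  have hesq : e ^ 2 ≤ s ^ v := by
    rw [← hidx, ← index_eq_sum hinv', he]
    exact Finset.single_le_sum (f := fun χ => multOver θ' χ ^ 2) (fun _ _ => Nat.zero_le _)
      (Finset.mem_univ ψ)
  obtain ⟨j, hjv, hj⟩ : ∃ j, j ≤ v ∧ e = s ^ j := by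
    obtain ⟨r, hr, hrdvd, -⟩ := NormalDefect.exists_ratio ψ θ' hψ
    have h1 := hψe 1
    rw [OneMemClass.coe_one, (charDegree_eq ψ).1, (charDegree_eq θ').1, ← Nat.cast_mul, Nat.cast_inj,
      hr, mul_comm e] at h1
    obtain rfl : r = e := Nat.eq_of_mul_eq_mul_left (Nat.pos_of_ne_zero (charDegree_eq θ').2) h1
    rw [hidx] at hrdvd
    exact (Nat.dvd_prime_pow hs).mp hrdvd
  rw [hj, ← pow_mul] at hesq
  have h2j : j * 2 ≤ v := (Nat.pow_le_pow_iff_right hs.one_lt).mp hesq
  have hdvd : ∀ χ : IrrCharacter Γ, s ^ (2 * (v - j)) ∣ multOver θ χ ^ 2 := by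
    intro χ
    rcases eq_or_ne (multOver θ χ) 0 with h0 | h0
    · simp [h0]
    have hχ := (over_iff θ χ).mpr h0
    obtain ⟨N, hN⟩ := classInner_char_irr_nat (isCharacter_comp (isCharacter_irr χ) U.subtype) ψ
    have hN' : classInner (fun x : U => (χ : Γ → ℂ) x) (ψ : U → ℂ) = N := hN
    have hvan : ∀ x : U, x ∉ K.subgroupOf U → (χ : Γ → ℂ) x = 0 := by
      intro x hx
      by_contra hne
      have hx1 : ((x : Γ) : Γ ⧸ K) ≠ 1 := fun h => hx (Subgroup.mem_subgroupOf.mpr ((QuotientGroup.eq_one_iff (x : Γ)).mp h))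
      obtain ⟨k, hk⟩ := (IsPGroup.iff_orderOf.mp S.isPGroup') ⟨((x : Γ) : Γ ⧸ K), x.2⟩
      rw [← Subgroup.orderOf_coe] at hk
      exact hbad _ hx1 ⟨k, hk⟩ ⟨χ, hχ, x, rfl, hne⟩
    have hsum : ∑ x : U, (χ : Γ → ℂ) x * conj ((ψ : U → ℂ) x) =
        (multOver θ χ : ℂ) * e * (Nat.card (K.subgroupOf U) : ℂ) := by
      rw [← Finset.sum_filter_of_ne (p := fun x : U => x ∈ K.subgroupOf U)
          (fun x _ hx => by_contra fun hxK => hx (by rw [hvan x hxK, zero_mul])),
        Finset.sum_subtype (p := fun x : U => x ∈ K.subgroupOf U) _ (fun x => by simp)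
          (fun x : U => (χ : Γ → ℂ) x * conj ((ψ : U → ℂ) x))]
      have h1 := classInner_irr_self θ'
      rw [classInner, inv_mul_eq_one₀ (Nat.cast_ne_zero.mpr Nat.card_pos.ne')] at h1
      rw [h1, Finset.mul_sum]
      refine Fintype.sum_congr _ _ fun k => ?_
      rw [hψe k, map_mul, map_natCast]
      have hk : (χ : Γ → ℂ) ((k : U) : Γ) = (multOver θ χ : ℂ) * (θ' : K.subgroupOf U → ℂ) k :=
        res_eq hinv hχ (Subgroup.subgroupOfEquivOfLe hKU k)
      rw [hk]
      ring
    rw [classInner, hsum] at hN'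
    have hcard : (Nat.card U : ℂ) = (Nat.card (K.subgroupOf U) : ℂ) * ((s ^ v : ℕ) : ℂ) := by
      rw [← hidx]
      exact_mod_cast ((K.subgroupOf U).card_mul_index).symm
    have hK0 : (Nat.card (K.subgroupOf U) : ℂ) ≠ 0 := Nat.cast_ne_zero.mpr Nat.card_pos.ne'
    have hs0 : ((s ^ v : ℕ) : ℂ) ≠ 0 := Nat.cast_ne_zero.mpr (pow_ne_zero _ hs.ne_zero)
    rw [hcard] at hN'
    field_simp at hN'
    have hnat : multOver θ χ * e = N * s ^ v := by
      apply Nat.cast_injective (R := ℂ)
      push_cast at hN' ⊢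
      linear_combination hN'
    rw [hj, ← Nat.sub_add_cancel (show j ≤ v from hjv), pow_add, ← mul_assoc] at hnat
    have h2 := Nat.eq_of_mul_eq_mul_right (pow_pos hs.pos j) hnat
    rw [mul_comm 2, pow_mul]
    exact pow_dvd_pow_of_dvd (Dvd.intro_left _ h2.symm) 2
  have hle : 2 * (v - j) ≤ v := by
    have h := Finset.dvd_sum (s := Finset.univ) fun χ _ => hdvd χ
    rw [index_eq_sum hinv, hs.pow_dvd_iff_le_factorization Subgroup.index_ne_zero_of_finite] at h
    exact h
  exact ⟨j, by omega⟩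

end CfsgLib.Block.ThreeChar
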