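import Cfsg.Agent.Lib.Block.ThreeChar.Linear

/-!
# Dimension two, exceptional pairs, and the conclusion
-/

set_option autoImplicit false
set_option linter.unusedSectionVars false
set_option linter.style.haveILetI false

namespace CfsgLib.Block.ThreeChar

open Module CfsgLib.Char

universe u v

variable {p : ℕ} [Fact p.Prime] {E : Type u} [Group E] [Finite E] {V : Type v} [AddCommGroup V]
  [Module (ZMod p) V] [Finite V] [Nontrivial V]

variable {ρ : E →* Module.End (ZMod p) V}

/-- The eigenspace for `-1`. -/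
def negSpace (ρ : E →* Module.End (ZMod p) V) (x : E) : Submodule (ZMod p) V :=
  LinearMap.eqLocus (ρ x) (-LinearMap.id)

theorem mem_negSpace {x : E} {w : V} : w ∈ negSpace ρ x ↔ ρ x w = -w := LinearMap.mem_eqLocus

theorem negSpace_inv {x e : E} (h : Commute e x) : InvW ρ e (negSpace ρ x) := by
  intro w hw
  rw [mem_negSpace] at hw ⊢
  rw [← Module.End.mul_apply, ← map_mul, ← h.eq, map_mul, Module.End.mul_apply, hw, map_neg]

theorem exists_neg_vector {x : E} (hx : x * x = 1) {u : V} (hu : ρ x u ≠ u) :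
    ρ x u - u ∈ negSpace ρ x ∧ ρ x u - u ≠ 0 := by
  refine ⟨?_, sub_ne_zero.mpr hu⟩
  rw [mem_negSpace, map_sub, ← Module.End.mul_apply, ← map_mul, hx, map_one, Module.End.one_apply, neg_sub]

theorem sq_ne_neg_one (hp4 : p % 4 = 3) (c : ZMod p) : c ^ 2 ≠ -1 :=
  fun h => ZMod.mod_four_ne_three_of_sq_eq_neg_one h hp4

theorem eq_one_or_neg_one_of_pow_four (hp4 : p % 4 = 3) {c : ZMod p} (h : c ^ 4 = 1) :
    c = 1 ∨ c = -1 := by
  have h1 : (c - 1) * (c + 1) * (c ^ 2 + 1) = 0 := by linear_combination h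
  rcases mul_eq_zero.mp h1 with h2 | h2
  · rcases mul_eq_zero.mp h2 with h3 | h3
    · exact Or.inl (sub_eq_zero.mp h3)
    · exact Or.inr (eq_neg_of_add_eq_zero_left h3)
  · exact absurd (eq_neg_of_add_eq_zero_left h2) (sq_ne_neg_one hp4 c)

section

variable (S : GoodSetup p ρ)
include S

theorem neg_ne_self {w : V} (hw : w ≠ 0) : -w ≠ w := by
  intro h
  have h2 : (2 : ZMod p) • w = 0 := by
    rw [two_smul]
    conv_lhs => arg 2; rw [← h]
    rw [add_neg_cancel]
  have h20 : (2 : ZMod p) ≠ 0 := by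
    have := (ZMod.natCast_eq_zero_iff 2 p).not.mpr (fun hd => S.hp
      ((Nat.prime_dvd_prime_iff_eq Fact.out Nat.prime_two).mp hd))
    exact_mod_cast this
  exact hw ((smul_eq_zero.mp h2).resolve_left h20)

theorem eq_of_forall_neg {x z : E} (hz : ∀ v, ρ z v = -v) (h : ∀ v, ρ x v = -v) : x = z :=
  S.inj (LinearMap.ext fun v => by rw [h, hz])

/-- An element of order four squares to `-1` and is irreducible. -/
theorem order_four (h2 : finrank (ZMod p) V = 2) (hp4 : p % 4 = 3) {y : E} (hy : orderOf y = 4) :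
    Nat.card (Subgroup.centralizer ({y} : Set E)) = 4 ∧
      IsCyclic (Subgroup.centralizer ({y} : Set E)) := by
  have hy2 : y ^ 2 ≠ 1 := fun h => by
    have := Nat.le_of_dvd two_pos (hy ▸ orderOf_dvd_of_pow_eq_one h)
    omega
  have hy4 : y ^ 2 * y ^ 2 = 1 := by rw [← pow_add, ← orderOf_dvd_iff_pow_eq_one, hy]
  obtain ⟨u, hu⟩ : ∃ u, ρ (y ^ 2) u ≠ u := by
    by_contra h
    push Not at h
    exact hy2 (eq_one_of_inj ρ S.inj h)
  obtain ⟨hmem, hne⟩ := exists_neg_vector hy4 hu
  have heig : ∀ (W : Submodule (ZMod p) V), InvW ρ y W → finrank (ZMod p) W = 1 →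
      W ≤ negSpace ρ (y ^ 2) → False := by
    intro W hW h1 hle
    obtain ⟨c, w, hwW, hw0, hc⟩ := exists_eigen ρ hW h1
    have h3 : ρ (y ^ 2) w = c ^ 2 • w := by
      rw [pow_two, map_mul, Module.End.mul_apply, hc w hwW, map_smul, hc w hwW, smul_smul, pow_two]
    have h4 : (c ^ 2 + 1) • w = 0 := by
      rw [add_smul, one_smul, ← h3, mem_negSpace.mp (hle hwW), neg_add_cancel]
    exact sq_ne_neg_one hp4 c (eq_neg_of_add_eq_zero_left ((smul_eq_zero.mp h4).resolve_right hw0))
  have htop : negSpace ρ (y ^ 2) = ⊤ := by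
    refine Submodule.eq_top_of_finrank_eq ?_
    have h0 : finrank (ZMod p) (negSpace ρ (y ^ 2)) ≠ 0 := fun h =>
      hne ((Submodule.mem_bot _).mp ((Submodule.finrank_eq_zero.mp h).le hmem))
    have hle := Submodule.finrank_le (negSpace ρ (y ^ 2))
    rw [h2] at hle ⊢
    by_contra hne2
    exact heig _ (negSpace_inv (Commute.pow_right (Commute.refl y) 2)) (by omega) le_rfl
  have hirr : Irred ρ y := fun W hW => by
    rcases Nat.eq_zero_or_pos (finrank (ZMod p) W) with h0 | h0
    · exact Or.inl (Submodule.finrank_eq_zero.mp h0)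
    have hle := Submodule.finrank_le W
    rw [h2] at hle
    rcases (show finrank (ZMod p) W = 1 ∨ finrank (ZMod p) W = 2 by omega) with h1 | h1
    · exact (heig W hW h1 (htop ▸ le_top)).elim
    · exact Or.inr (Submodule.eq_top_of_finrank_eq (h1.trans h2.symm))
  have hc := isCyclic_centralizer ρ S.inj hirr
  exact ⟨(card_centralizer_eq_order S (fun h => by rw [h, orderOf_one] at hy; omega) hc).trans hy, hc⟩

/-- Dimension two forces characteristic three and a regular group of order eight, which is absurd. -/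
theorem finrank_two_false (h2 : finrank (ZMod p) V = 2) : False := by
  classical
  haveI := Fintype.ofFinite E
  have hp : p.Prime := Fact.out
  have hp3 : 3 ≤ p := Nat.lt_of_le_of_ne hp.two_le (Ne.symm S.hp)
  obtain ⟨t, ht⟩ := hp.odd_of_ne_two S.hp
  have hfac : p ^ 2 - 1 = (p - 1) * (p + 1) := by
    rw [show p ^ 2 - 1 = p ^ 2 - 1 ^ 2 by rw [one_pow], Nat.sq_sub_sq, mul_comm]
  have h2p : 0 < (p + 1).factorization 2 :=
    Nat.Prime.factorization_pos_of_dvd Nat.prime_two (by omega) ⟨t + 1, by omega⟩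
  have h2m : 0 < (p - 1).factorization 2 :=
    Nat.Prime.factorization_pos_of_dvd Nat.prime_two (by omega) ⟨t, by omega⟩
  have hv : (p ^ 2 - 1).factorization 2 = (p - 1).factorization 2 + (p + 1).factorization 2 := by
    rw [hfac, Nat.factorization_mul (by omega) (by omega), Finsupp.add_apply]
  obtain ⟨z, hz1, hz, hzc⟩ := exists_neg S (by omega) fun k hk hk2 hd => by
    rw [h2] at hd hk2
    obtain rfl : k = 1 := by omega
    rw [pow_one, Nat.prime_two.pow_dvd_iff_le_factorization (by omega)] at hd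
    omega
  have hsq : p ^ 2 - 1 ∣ Nat.card E := h2 ▸ pow_sub_one_dvd S
  obtain ⟨a, ha⟩ : ∃ a, p + 1 = 2 ^ a := by
    refine ⟨_, Nat.eq_prime_pow_of_unique_prime_dvd (by omega) fun {s} hs hsd => ?_⟩
    by_contra hs2
    refine no_prim_of_neg S hz1 hz hzc hs hs2 (by rw [h2, hfac]; exact hsd.mul_left _) fun k hk hk2 hd => ?_
    rw [h2] at hk2
    obtain rfl : k = 1 := by omega
    rw [pow_one] at hd
    have := Nat.dvd_sub hsd hd
    rw [show p + 1 - (p - 1) = 2 by omega] at this
    exact hs2 ((Nat.prime_dvd_prime_iff_eq hs Nat.prime_two).mp this)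
  have ha2 : 2 ≤ a := by
    by_contra h
    have h' : 2 ^ a ≤ 2 ^ 1 := Nat.pow_le_pow_right two_pos (by omega)
    rw [← ha] at h'
    omega
  have hp4 : p % 4 = 3 := by
    obtain ⟨b, hb⟩ : 4 ∣ p + 1 := ha ▸ pow_dvd_pow 2 ha2
    omega
  have hzz : z * z = 1 := S.inj (LinearMap.ext fun w => by
    rw [map_mul, map_one, Module.End.mul_apply, hz, hz, neg_neg, Module.End.one_apply])
  have hz2 : orderOf z = 2 := orderOf_eq_prime (by rw [pow_two, hzz]) hz1
  obtain ⟨T⟩ := (inferInstance : Nonempty (Sylow 2 E))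
  have hzT : z ∈ (T : Subgroup E) := by
    haveI : (Subgroup.zpowers z).Normal := ⟨fun x hx g => by
      obtain ⟨i, rfl⟩ := hx
      rw [← ((hzc g).zpow_left i).eq, mul_inv_cancel_right]
      exact ⟨i, rfl⟩⟩
    have hP : IsPGroup 2 (Subgroup.zpowers z) :=
      IsPGroup.of_card (n := 1) (by rw [Nat.card_zpowers, hz2, pow_one])
    have heq := T.is_maximal' (T.isPGroup'.to_sup_of_normal_right hP) le_sup_left
    rw [← heq]
    exact le_sup_right (a := (T : Subgroup E)) (Subgroup.mem_zpowers z)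
  -- the orders in the Sylow subgroup
  have hTord : ∀ x ∈ (T : Subgroup E), x ^ 4 = 1 := by
    intro x hx
    obtain ⟨j, hj⟩ := (IsPGroup.iff_orderOf.mp T.isPGroup') ⟨x, hx⟩
    rw [Subgroup.orderOf_mk] at hj
    rcases Nat.lt_or_ge j 3 with h | h
    · exact orderOf_dvd_iff_pow_eq_one.mp (hj ▸ (pow_dvd_pow 2 (by omega : j ≤ 2)))
    exfalso
    have hd : 2 ^ (j - 2) ∣ 2 ^ j := pow_dvd_pow 2 (by omega)
    have ho : orderOf (x ^ 2 ^ (j - 2)) = 4 := by
      rw [orderOf_pow_of_dvd (by positivity) (hj ▸ hd), hj, Nat.pow_div (by omega) two_pos,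
        show j - (j - 2) = 2 by omega]
      norm_num
    have := Subgroup.orderOf_dvd_natCard (x := x) (Subgroup.centralizer ({x ^ 2 ^ (j - 2)} : Set E))
      (Subgroup.mem_centralizer_singleton_iff.mpr (Commute.self_pow x _).eq)
    rw [(order_four S h2 hp4 ho).1, hj, show (4 : ℕ) = 2 ^ 2 by norm_num,
      Nat.pow_dvd_pow_iff_le_right (by norm_num)] at this
    omega
  -- a nearly central element
  have hcardT : Nat.card (T : Subgroup E) = 2 ^ (Nat.card E).factorization 2 := T.card_eq_multiplicity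
  have hvE : (p ^ 2 - 1).factorization 2 ≤ (Nat.card E).factorization 2 :=
    (Nat.factorization_le_iff_dvd (by rw [hfac]; exact mul_ne_zero (by omega) (by omega))
      Nat.card_pos.ne').mpr hsq 2
  have hap : (p + 1).factorization 2 = a := by
    rw [ha, Nat.prime_two.factorization_pow, Finsupp.single_eq_same]
  set Z : Subgroup (T : Subgroup E) := Subgroup.zpowers ⟨z, hzT⟩ with hZ
  haveI : Z.Normal := ⟨fun x hx g => by
    obtain ⟨i, rfl⟩ := hx
    refine ⟨i, Subtype.ext ?_⟩
    simp only [Subgroup.coe_mul, Subgroup.coe_inv, Subgroup.coe_zpow]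
    rw [← ((hzc (g : E)).zpow_left i).eq, mul_inv_cancel_right]⟩
  have hZcard : Nat.card Z = 2 := by rw [hZ, Nat.card_zpowers, Subgroup.orderOf_mk, hz2]
  have hZmem : ∀ x ∈ Z, (x : E) = 1 ∨ (x : E) = z := by
    intro x hx
    obtain ⟨i, rfl⟩ := hx
    rw [Subgroup.coe_zpow]
    rcases Int.even_or_odd i with ⟨m, rfl⟩ | ⟨m, rfl⟩
    · left
      rw [zpow_add, ← (Commute.refl z).mul_zpow, hzz, one_zpow]
    · right
      rw [zpow_add, zpow_one, two_mul, zpow_add, ← (Commute.refl z).mul_zpow, hzz, one_zpow, one_mul]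
  haveI : Nontrivial ((T : Subgroup E) ⧸ Z) := by
    rw [← Finite.one_lt_card_iff_nontrivial]
    have h3 := Subgroup.card_eq_card_quotient_mul_card_subgroup Z
    have h8 : 2 ^ 3 ≤ Nat.card (T : Subgroup E) := hcardT ▸ Nat.pow_le_pow_right two_pos (by omega)
    rw [h3, hZcard] at h8
    omega
  haveI := (T.isPGroup'.to_quotient Z).center_nontrivial
  obtain ⟨⟨q, hqc⟩, hq1⟩ := exists_ne (1 : Subgroup.center ((T : Subgroup E) ⧸ Z))
  obtain ⟨⟨w, hwT⟩, rfl⟩ := QuotientGroup.mk_surjective q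
  have hw : ¬ (w = 1 ∨ w = z) := by
    intro h
    refine hq1 (Subtype.ext ((QuotientGroup.eq_one_iff _).mpr ?_))
    rcases h with h | h
    · rw [show (⟨w, hwT⟩ : (T : Subgroup E)) = 1 from Subtype.ext h]; exact one_mem _
    · rw [show (⟨w, hwT⟩ : (T : Subgroup E)) = ⟨z, hzT⟩ from Subtype.ext h]; exact Subgroup.mem_zpowers _
  have hnear : ∀ x ∈ (T : Subgroup E), x * w * x⁻¹ = w ∨ x * w * x⁻¹ = z * w := by
    intro x hx
    have hm : (⟨x, hx⟩ * ⟨w, hwT⟩ * ⟨x, hx⟩⁻¹ * ⟨w, hwT⟩⁻¹ : (T : Subgroup E)) ∈ Z := by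
      rw [← QuotientGroup.eq_one_iff, QuotientGroup.mk_mul, QuotientGroup.mk_mul, QuotientGroup.mk_mul,
        QuotientGroup.mk_inv, QuotientGroup.mk_inv, Subgroup.mem_center_iff.mp hqc, mul_inv_cancel_right,
        mul_inv_cancel]
    rcases hZmem _ hm with h | h <;> simp only [Subgroup.coe_mul, Subgroup.coe_inv] at h
    · exact Or.inl (mul_inv_eq_one.mp h)
    · exact Or.inr (mul_inv_eq_iff_eq_mul.mp h)
  set Tf : Finset E := Finset.univ.filter (· ∈ (T : Subgroup E)) with hTf
  set Cf : Finset E := Tf.filter (fun x => x * w = w * x) with hCf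
  have hTC : Tf.card ≤ 2 * Cf.card := by
    by_cases hall : ∀ x ∈ (T : Subgroup E), x * w * x⁻¹ = w
    · have : Tf ⊆ Cf := fun x hx => Finset.mem_filter.mpr ⟨hx,
        mul_inv_eq_iff_eq_mul.mp (hall x (Finset.mem_filter.mp hx).2)⟩
      have := Finset.card_le_card this
      omega
    push Not at hall
    obtain ⟨x₁, hx₁, hx₁w⟩ := hall
    have hsub : Tf ⊆ Cf ∪ Cf.image (x₁ * ·) := by
      intro x hx
      have hxT : x ∈ (T : Subgroup E) := (Finset.mem_filter.mp hx).2
      rcases hnear x hxT with h | h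
      · exact Finset.mem_union_left _ (Finset.mem_filter.mpr ⟨hx, mul_inv_eq_iff_eq_mul.mp h⟩)
      refine Finset.mem_union_right _ (Finset.mem_image.mpr ⟨x₁⁻¹ * x, Finset.mem_filter.mpr ⟨?_, ?_⟩,
        mul_inv_cancel_left _ _⟩)
      · exact Finset.mem_filter.mpr ⟨Finset.mem_univ _, mul_mem (inv_mem hx₁) hxT⟩
      · have h1 := (hnear x₁ hx₁).resolve_left hx₁w
        calc x₁⁻¹ * x * w = x₁⁻¹ * (x * w * x⁻¹) * x := by group
          _ = x₁⁻¹ * (x₁ * w * x₁⁻¹) * x := by rw [h, h1]
          _ = w * (x₁⁻¹ * x) := by group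
    refine (Finset.card_le_card hsub).trans ((Finset.card_union_le _ _).trans ?_)
    have := Finset.card_image_le (s := Cf) (f := (x₁ * ·))
    omega
  have hC4 : Cf.card ≤ 4 := by
    obtain ⟨j, hj⟩ := (IsPGroup.iff_orderOf.mp T.isPGroup') ⟨w, hwT⟩
    rw [Subgroup.orderOf_mk] at hj
    have hj2 : j ≤ 2 := (Nat.pow_dvd_pow_iff_le_right (by norm_num)).mp
      (hj ▸ orderOf_dvd_of_pow_eq_one (hTord w hwT) : 2 ^ j ∣ 2 ^ 2)
    have hw1 : w ≠ 1 := fun h => hw (Or.inl h)
    have hj0 : j ≠ 0 := fun h => hw1 (orderOf_eq_one_iff.mp (by rw [hj, h, pow_zero]))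
    rcases (show j = 1 ∨ j = 2 by omega) with rfl | rfl
    · -- an involution with two eigenlines
      have hww : w * w = 1 := by rw [← pow_two, ← orderOf_dvd_iff_pow_eq_one, hj, pow_one]
      set F : Submodule (ZMod p) V := LinearMap.eqLocus (ρ w) LinearMap.id with hF
      set N' := negSpace ρ w with hN
      obtain ⟨u₁, hu₁⟩ : ∃ u, ρ w u ≠ -u := by
        by_contra h
        push Not at h
        exact hw (Or.inr (eq_of_forall_neg S hz h))
      obtain ⟨u₂, hu₂⟩ : ∃ u, ρ w u ≠ u := by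
        by_contra h
        push Not at h
        exact hw1 (eq_one_of_inj ρ S.inj h)
      obtain ⟨v₂, hv₂, hv₂0⟩ : ∃ v, v ∈ N' ∧ v ≠ 0 := ⟨_, exists_neg_vector hww hu₂⟩
      obtain ⟨v₁, hv₁, hv₁0⟩ : ∃ v, v ∈ F ∧ v ≠ 0 := by
        refine ⟨ρ w u₁ + u₁, LinearMap.mem_eqLocus.mpr ?_, fun h => hu₁ (eq_neg_of_add_eq_zero_left h)⟩
        rw [LinearMap.id_apply, map_add, ← Module.End.mul_apply, ← map_mul, hww, map_one,
          Module.End.one_apply, add_comm]
      have hdisj : ∀ x, x ∈ F → x ∈ N' → x = 0 := fun x h1 h2 => by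
        by_contra h0
        exact neg_ne_self S h0 ((mem_negSpace.mp h2).symm.trans (LinearMap.mem_eqLocus.mp h1))
      have hF0 : 0 < finrank (ZMod p) F := Nat.pos_of_ne_zero fun h => hv₁0
        ((Submodule.mem_bot _).mp ((Submodule.finrank_eq_zero.mp h).le hv₁))
      have hN0 : 0 < finrank (ZMod p) N' := Nat.pos_of_ne_zero fun h => hv₂0
        ((Submodule.mem_bot _).mp ((Submodule.finrank_eq_zero.mp h).le hv₂))
      have hinf : F ⊓ N' = ⊥ := eq_bot_iff.mpr fun x hx => (Submodule.mem_bot _).mpr (hdisj x hx.1 hx.2)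
      have hsum := Submodule.finrank_sup_add_finrank_inf_eq F N'
      rw [hinf, finrank_bot, add_zero] at hsum
      have hle := Submodule.finrank_le (F ⊔ N')
      have hF1 : finrank (ZMod p) F = 1 := by omega
      have hN1 : finrank (ZMod p) N' = 1 := by omega
      have htop : F ⊔ N' = ⊤ := Submodule.eq_top_of_finrank_eq (by omega)
      have hsign : ∀ e ∈ Cf, ∀ W : Submodule (ZMod p) V, InvW ρ e W → finrank (ZMod p) W = 1 →
          (∀ x ∈ W, ρ e x = x) ∨ (∀ x ∈ W, ρ e x = -x) := by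
        intro e he W hW h1
        obtain ⟨c, x₀, hx₀, hx₀0, hc⟩ := exists_eigen ρ hW h1
        have he4 := hTord e (Finset.mem_filter.mp (Finset.mem_filter.mp he).1).2
        have hc4 : ρ (e ^ 4) x₀ = c ^ 4 • x₀ := by
          simp only [pow_succ, pow_zero, one_mul, map_mul, Module.End.mul_apply, hc x₀ hx₀, map_smul,
            smul_smul, mul_assoc]
        rw [he4, map_one, Module.End.one_apply] at hc4
        have h4 : (c ^ 4 - 1) • x₀ = 0 := by rw [sub_smul, one_smul, ← hc4, sub_self]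
        rcases eq_one_or_neg_one_of_pow_four hp4 (sub_eq_zero.mp ((smul_eq_zero.mp h4).resolve_right hx₀0))
          with rfl | rfl
        · exact Or.inl fun x hx => by rw [hc x hx, one_smul]
        · exact Or.inr fun x hx => by rw [hc x hx, neg_one_smul]
      have hinvF : ∀ e ∈ Cf, InvW ρ e F := fun e he x hx => by
        rw [LinearMap.mem_eqLocus, LinearMap.id_apply] at hx ⊢
        rw [← Module.End.mul_apply, ← map_mul, ← (Finset.mem_filter.mp he).2, map_mul,
          Module.End.mul_apply, hx]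
      have hinvN : ∀ e ∈ Cf, InvW ρ e N' := fun e he => negSpace_inv (Finset.mem_filter.mp he).2
      let sgn : E → Bool × Bool := fun e => (decide (ρ e v₁ = v₁), decide (ρ e v₂ = v₂))
      have hinj : Set.InjOn sgn Cf := by
        intro e₁ he₁ e₂ he₂ h
        simp only [sgn, Prod.mk.injEq, decide_eq_decide] at h
        have hag : ∀ (W : Submodule (ZMod p) V) (v : V), v ∈ W → v ≠ 0 → InvW ρ e₁ W → InvW ρ e₂ W →
            finrank (ZMod p) W = 1 → (ρ e₁ v = v ↔ ρ e₂ v = v) → ∀ x ∈ W, ρ e₁ x = ρ e₂ x := by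
          intro W v hv hv0 i₁ i₂ h1 hiff x hx
          rcases hsign e₁ he₁ W i₁ h1 with a₁ | a₁ <;> rcases hsign e₂ he₂ W i₂ h1 with a₂ | a₂
          · rw [a₁ x hx, a₂ x hx]
          · exact absurd ((a₂ v hv).symm.trans (hiff.mp (a₁ v hv))) (neg_ne_self S hv0)
          · exact absurd ((a₁ v hv).symm.trans (hiff.mpr (a₂ v hv))) (neg_ne_self S hv0)
          · rw [a₁ x hx, a₂ x hx]
        refine S.inj (LinearMap.ext fun x => ?_)
        obtain ⟨x₁, hx₁, x₂, hx₂, rfl⟩ := Submodule.mem_sup.mp (show x ∈ F ⊔ N' by rw [htop]; trivial)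
        rw [map_add, map_add, hag F v₁ hv₁ hv₁0 (hinvF _ he₁) (hinvF _ he₂) hF1 h.1 x₁ hx₁,
          hag N' v₂ hv₂ hv₂0 (hinvN _ he₁) (hinvN _ he₂) hN1 h.2 x₂ hx₂]
      have := Finset.card_le_card_of_injOn (t := (Finset.univ : Finset (Bool × Bool))) sgn
        (fun _ _ => Finset.mem_univ _) hinj
      simpa using this
    · have h4 := (order_four S h2 hp4 (y := w) (by rw [hj]; norm_num)).1
      rw [← h4, Nat.card_eq_fintype_card, Fintype.card_subtype]
      refine Finset.card_le_card fun x hx => Finset.mem_filter.mpr ⟨Finset.mem_univ _,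
        Subgroup.mem_centralizer_singleton_iff.mpr (Finset.mem_filter.mp hx).2⟩
  have hT8 : Nat.card (T : Subgroup E) ≤ 8 := by
    rw [Nat.card_eq_fintype_card, Fintype.card_subtype]
    exact hTC.trans (by omega)
  have hvE3 : (Nat.card E).factorization 2 ≤ 3 :=
    (Nat.pow_le_pow_iff_right (by norm_num : 1 < 2)).mp (hcardT ▸ hT8 : 2 ^ _ ≤ 2 ^ 3)
  have hp_eq : p = 3 := by
    have : a ≤ 2 := by omega
    obtain rfl : a = 2 := by omega
    omega
  subst hp_eq
  -- a regular group of order eight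
  have hV : Nat.card V = 9 := by rw [card_eq_pow (p := 3) V, h2]; norm_num
  have hvE3' : (Nat.card E).factorization 2 = 3 := by omega
  have hstab : ∀ v : V, v ≠ 0 → ∀ h ∈ stab ρ v, h = 1 := by
    intro v hv h hh
    by_contra hne
    obtain ⟨s, hs, hsd⟩ := Nat.exists_prime_and_dvd (n := Nat.card (stab ρ v)) fun h1 => hne
      (by simpa using (Subgroup.card_eq_one.mp h1).le hh)
    haveI : Fact s.Prime := ⟨hs⟩
    have hE := card_eq_mul_stab ρ S.trans hv
    rw [hV] at hE
    have hs3 : s ≠ 3 := fun e => S.hcop (e ▸ hsd.trans (Subgroup.card_subgroup_dvd_card _))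
    have hs2 : s ≠ 2 := by
      rintro rfl
      have : 2 ^ 4 ∣ Nat.card E := by
        rw [hE]; exact mul_dvd_mul (dvd_refl 8) hsd
      rw [Nat.prime_two.pow_dvd_iff_le_factorization Nat.card_pos.ne'] at this
      omega
    obtain ⟨⟨g, hgv⟩, hg⟩ := exists_prime_orderOf_dvd_card' (G := stab ρ v) s hsd
    rw [Subgroup.orderOf_mk] at hg
    have hc := card_modEq_fixed ρ hg (W := ⊤) (fun _ _ => trivial)
    rw [top_inf_eq, card_submodule, card_submodule, finrank_top, h2] at hc
    set F : Submodule (ZMod 3) V := LinearMap.eqLocus (ρ g) LinearMap.id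
    have hF0 : 0 < finrank (ZMod 3) F := Nat.pos_of_ne_zero fun h0 => hv
      ((Submodule.mem_bot _).mp ((Submodule.finrank_eq_zero.mp h0).le (LinearMap.mem_eqLocus.mpr hgv)))
    have hF2 := Submodule.finrank_le F
    rw [h2] at hF2
    rcases (show finrank (ZMod 3) F = 1 ∨ finrank (ZMod 3) F = 2 by omega) with h1 | h1
    · rw [h1] at hc
      have h6 : s ∣ 6 := (Nat.modEq_iff_dvd' (by norm_num : 3 ^ 1 ≤ 3 ^ 2)).mp hc.symm
      have := Nat.le_of_dvd (by norm_num) h6
      interval_cases s <;> first | omega | exact absurd hs (by norm_num) | exact absurd h6 (by norm_num)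
    · have hg1 : g = 1 := eq_one_of_inj ρ S.inj fun x => LinearMap.mem_eqLocus.mp
        (show x ∈ F by rw [Submodule.eq_top_of_finrank_eq (h1.trans h2.symm)]; trivial)
      rw [hg1, orderOf_one] at hg
      exact hs.ne_one hg.symm
  obtain ⟨v₀, hv₀⟩ := exists_ne (0 : V)
  have hE8 : Nat.card E = 8 := by
    have := card_eq_mul_stab ρ S.trans hv₀
    rw [hV, (Subgroup.eq_bot_iff_forall _).mpr (hstab v₀ hv₀), Subgroup.card_bot] at this
    omega
  have hTtop : ∀ x : E, x ∈ (T : Subgroup E) := fun x => by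
    have : (T : Subgroup E) = ⊤ := Subgroup.eq_top_of_card_eq _ (by rw [hcardT, hvE3', hE8]; norm_num)
    rw [this]; trivial
  have hinv : ∀ x : E, x * x = 1 → x = 1 ∨ x = z := by
    intro x hx
    by_contra hcon
    push Not at hcon
    obtain ⟨u, hu⟩ : ∃ u, ρ x u + u ≠ 0 := by
      by_contra h
      push Not at h
      exact hcon.2 (eq_of_forall_neg S hz fun v => eq_neg_of_add_eq_zero_left (h v))
    refine hcon.1 (hstab _ hu x ?_)
    rw [mem_stab, map_add, ← Module.End.mul_apply, ← map_mul, hx, map_one, Module.End.one_apply, add_comm]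
  set O : Finset E := Finset.univ.filter (fun x => ¬ (x = 1 ∨ x = z)) with hO
  have hO6 : 6 ≤ O.card := by
    have h1 : (Finset.univ.filter fun x : E => x = 1 ∨ x = z).card ≤ 2 :=
      (Finset.card_le_card (t := {1, z}) fun x hx => by
        simpa using (Finset.mem_filter.mp hx).2).trans Finset.card_le_two
    have h2' := Finset.card_filter_add_card_filter_not (s := (Finset.univ : Finset E))
      (fun x : E => x = 1 ∨ x = z)
    rw [Finset.card_univ, ← Nat.card_eq_fintype_card, hE8] at h2'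
    simp only [hO]
    omega
  have hfour : ∀ x ∈ O, orderOf x = 4 := by
    intro x hx
    rw [hO, Finset.mem_filter] at hx
    exact orderOf_eq_prime_pow (p := 2) (n := 1)
      (fun h => hx.2 (hinv x (by rwa [pow_one, pow_two] at h)))
      (show x ^ 2 ^ (1 + 1) = 1 from hTord x (hTtop x))
  obtain ⟨y, hy⟩ : O.Nonempty := Finset.card_pos.mp (by omega)
  obtain ⟨hyC, hycyc⟩ := order_four S h2 hp4 (hfour y hy)
  have hsub : O ⊆ Finset.univ.image (fun t : E => t * y * t⁻¹) := by
    intro x hx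
    obtain ⟨t, ht⟩ := isConj_iff.mp (S.classEq y x (fun h => (Finset.mem_filter.mp hy).2 (Or.inl h))
      (fun h => (Finset.mem_filter.mp hx).2 (Or.inl h)) (S.cyclic y hycyc)
      (S.cyclic x (order_four S h2 hp4 (hfour x hx)).2))
    exact Finset.mem_image.mpr ⟨t, Finset.mem_univ _, ht⟩
  have hfib : 4 * (Finset.univ.image fun t : E => t * y * t⁻¹).card ≤ (Finset.univ : Finset E).card := by
    refine Finset.mul_card_image_le_card _ 4 fun b hb => ?_
    obtain ⟨t, -, rfl⟩ := Finset.mem_image.mp hb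
    rw [← hyC, Nat.card_eq_fintype_card, ← Finset.card_univ]
    refine Finset.card_le_card_of_injOn (fun c => t * (c : E)) (fun c _ => Finset.mem_filter.mpr
      ⟨Finset.mem_univ _, ?_⟩) fun a _ b _ h => Subtype.ext (mul_left_cancel h)
    show t * (c : E) * y * (t * (c : E))⁻¹ = t * y * t⁻¹
    rw [mul_inv_rev, mul_assoc t (c : E) y, Subgroup.mem_centralizer_singleton_iff.mp c.2]
    group
  have h8 := Finset.card_le_card hsub
  rw [Finset.card_univ, ← Nat.card_eq_fintype_card, hE8] at hfib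
  omega

/-- An exceptional pair with a second prime of odd exponent. -/
theorem parity_false {ℓ s : ℕ} (hl : ℓ.Prime) (hlE : ℓ ∣ p ^ finrank (ZMod p) V - 1)
    (hprim : ∀ k, 0 < k → k < finrank (ZMod p) V → ¬ ℓ ∣ p ^ k - 1) (hs : s.Prime) (hsl : ℓ ≠ s)
    (hodd : (p ^ finrank (ZMod p) V - 1).factorization s = 1) : False := by
  obtain ⟨g, hg, -, hcard, hall⟩ := prim_element S hl hlE hprim
  have heven := S.parity s hs fun e he ⟨k, hk⟩ hge => by
    have h1 := hall e he hge
    rw [hk] at h1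
    have hk0 : k ≠ 0 := fun h0 => hl.ne_one (by rw [← h1, h0, pow_zero])
    exact hsl ((Nat.prime_dvd_prime_iff_eq hs hl).mp (h1 ▸ dvd_pow_self s hk0)).symm
  have hg1 : g ≠ 1 := fun h => hl.ne_one (by rw [← hg, h, orderOf_one])
  have hgood : S.Good g := by
    haveI : Fact ℓ.Prime := ⟨hl⟩
    exact S.cyclic g (isCyclic_centralizer ρ S.inj (irred_of_prim ρ S.inj hg
      (fun h => S.hcop (h ▸ hlE.trans (pow_sub_one_dvd S))) hprim))
  obtain ⟨v, hv⟩ := exists_ne (0 : V)
  obtain ⟨m, hm⟩ := S.square g hg1 hgood v hv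
  have hq : p ^ finrank (ZMod p) V - 1 ≠ 0 := fun h0 => by simp [h0] at hodd
  have hm0 : m ≠ 0 := fun h0 => Nat.card_pos.ne' (hm.trans (by rw [h0, zero_mul]))
  rw [card_eq_mul_stab ρ S.trans hv, card_eq_pow (p := p) V, hm,
    Nat.factorization_mul hq (mul_ne_zero hm0 hm0), Finsupp.add_apply, hodd,
    Nat.factorization_mul hm0 hm0, Finsupp.add_apply] at heven
  obtain ⟨r, hr⟩ := heven
  omega

/-- The space has order three. -/
theorem card_eq_three : Nat.card V = 3 := by
  have hp : p.Prime := Fact.out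
  have hn : 0 < finrank (ZMod p) V := finrank_pos
  rcases (show finrank (ZMod p) V = 1 ∨ finrank (ZMod p) V = 2 ∨ 3 ≤ finrank (ZMod p) V by omega)
    with h | h | h
  · exact finrank_one_case S h
  · exact (finrank_two_false S h).elim
  exfalso
  rcases Zsigmondy.exists_large_or p (finrank (ZMod p) V) hp.two_le h with ⟨ℓ, ⟨hl, hld, hlp⟩, hlarge⟩ | hex
  · obtain ⟨h1, h2⟩ := prim_bounds S hl hld fun k hk hk2 => hlp k hk hk2
    rcases hlarge with h3 | h3
    · omega
    · exact h1 h3
  · simp only [Zsigmondy.exceptional, List.mem_cons, Prod.mk.injEq, List.not_mem_nil, or_false] at hex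
    have hp2 := S.hp
    rcases hex with ⟨h', -⟩ | ⟨h', hn'⟩ | ⟨h', -⟩ | ⟨h', hn'⟩ | ⟨h', hn'⟩ | ⟨h', -⟩ | ⟨h', -⟩ | ⟨h', -⟩
    all_goals first | exact hp2 h' | skip
    · subst h'
      obtain ⟨z, hz1, hz, hzc⟩ := exists_neg S hn fun k hk hk2 hd => by
        rw [hn'] at hk2 hd
        rw [show (3 : ℕ) ^ 4 - 1 = 2 ^ 4 * 5 by norm_num, Nat.factorization_mul (by norm_num) (by norm_num),
          Finsupp.add_apply, Nat.prime_two.factorization_pow, Finsupp.single_eq_same,
          Nat.factorization_eq_zero_of_not_dvd (by norm_num : ¬ 2 ∣ 5)] at hd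
        interval_cases k <;> norm_num at hd
      refine no_prim_of_neg S hz1 hz hzc (s := 5) (by norm_num) (by norm_num) (by rw [hn']; norm_num)
        fun k hk hk2 hd => ?_
      rw [hn'] at hk2
      interval_cases k <;> norm_num at hd
    · subst h'
      refine parity_false S (ℓ := 7) (s := 13) (by norm_num) (by rw [hn']; norm_num) (fun k hk hk2 hd => ?_)
        (by norm_num) (by norm_num) ?_
      · rw [hn'] at hk2
        interval_cases k <;> norm_num at hd
      · rw [hn', show (3 : ℕ) ^ 6 - 1 = 13 ^ 1 * 56 by norm_num,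
          Nat.factorization_mul (by norm_num) (by norm_num), Finsupp.add_apply,
          (by norm_num : Nat.Prime 13).factorization_pow, Finsupp.single_eq_same,
          Nat.factorization_eq_zero_of_not_dvd (by norm_num : ¬ 13 ∣ 56)]
    · subst h'
      refine parity_false S (ℓ := 7) (s := 31) (by norm_num) (by rw [hn']; norm_num) (fun k hk hk2 hd => ?_)
        (by norm_num) (by norm_num) ?_
      · rw [hn'] at hk2
        interval_cases k <;> norm_num at hd
      · rw [hn', show (5 : ℕ) ^ 6 - 1 = 31 ^ 1 * 504 by norm_num,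
          Nat.factorization_mul (by norm_num) (by norm_num), Finsupp.add_apply,
          (by norm_num : Nat.Prime 31).factorization_pow, Finsupp.single_eq_same,
          Nat.factorization_eq_zero_of_not_dvd (by norm_num : ¬ 31 ∣ 504)]

end

end CfsgLib.Block.ThreeChar
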