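import Cfsg.Agent.Lib.Block.ThreeChar.Good
import Cfsg.Agent.Lib.Block.ThreeChar.LinearTwo
import Cfsg.Agent.Lib.Block.OneMoreThanRank
import Cfsg.Agent.Lib.Block.HeightZeroCount
import Cfsg.Agent.Lib.Block.FreeInertial.Count
import Cfsg.Agent.Lib.Block.BlockCountBound
import Cfsg.Agent.S4648

/-!
# Three characters over an invariant canonical character

A block with normal abelian defect group `A`, invariant canonical character and exactly three members
has `A` of order three.
-/

set_option autoImplicit false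
set_option linter.unusedSectionVars false
set_option linter.style.haveILetI false

namespace CfsgLib.Block.ThreeChar

open Cfsg CfsgLib CfsgLib.Block CfsgLib.Char CfsgLib.Char.FullyRam
open scoped ComplexConjugate

universe u

variable {p : ℕ} {M : Ideal AlgInt} [M.IsMaximal]

section Kernel

variable {G : Type u} [Group G] [Fintype G] (A : Subgroup G) [Fintype A]

theorem classInner_one_of_trivial {χ : G → ℂ} (h : ∀ a : A, χ a = χ 1) :
    classInner (fun a : A => χ a) (oneChar A : A → ℂ) = χ 1 := by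
  rw [classInner, Finset.sum_congr rfl (g := fun _ => χ 1) fun a _ => by simp [oneChar, h a],
    Finset.sum_const, Finset.card_univ, nsmul_eq_mul, ← Nat.card_eq_fintype_card,
    inv_mul_cancel_left₀ (Nat.cast_ne_zero.mpr Nat.card_pos.ne')]

/-- A constituent-free trivial character: a nontrivial member has no fixed part. -/
theorem trivial_of_inner_ne_zero [A.Normal] (χ : IrrCharacter G)
    (h : classInner (fun a : A => (χ : G → ℂ) a) (oneChar A : A → ℂ) ≠ 0) (a : A) :
    (χ : G → ℂ) a = (χ : G → ℂ) 1 := by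
  obtain ⟨e, -, -, he⟩ := restrict_eq_smul_of_invariant A χ.2 (oneChar A).2 h
    fun g => funext fun x => by simp [oneChar, Char.conjFun]
  have h1 := congrFun he a
  have h2 := congrFun he 1
  simp only [Pi.smul_apply, smul_eq_mul, oneChar, OneMemClass.coe_one] at h1 h2
  rw [h1, h2]

/-- A constituent of a character trivial on a normal subgroup is trivial there. -/
theorem trivial_of_constituent [A.Normal] {K : Subgroup G} [Fintype K] (hAK : A ≤ K) {χ : IrrCharacter G}
    (htriv : ∀ a : A, (χ : G → ℂ) a = (χ : G → ℂ) 1) {η : IrrCharacter K}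
    (h : classInner (fun k : K => (χ : G → ℂ) k) (η : K → ℂ) ≠ 0) (a : A) :
    (η : K → ℂ) ⟨a, hAK a.2⟩ = (η : K → ℂ) 1 := by
  classical
  set A' : Subgroup K := A.subgroupOf K
  haveI := Fintype.ofFinite A'
  haveI : A'.Normal := Subgroup.Normal.subgroupOf inferInstance K
  refine trivial_of_inner_ne_zero A' η ?_ ⟨⟨a, hAK a.2⟩, a.2⟩
  intro h0
  have hc : IsCharacter K fun k : K => (χ : G → ℂ) k := isCharacter_comp (isCharacter_irr χ) K.subtype
  have hr := isCharacter_sub_constituent hc η h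
  obtain ⟨m, hm⟩ := classInner_isCharacter (isCharacter_comp hr A'.subtype) (isCharacter_irr (oneChar A'))
  obtain ⟨d, hd⟩ := isCharacter_degree hr
  have hval : classInner (fun x : A' => (χ : G → ℂ) (x : K)) (oneChar A' : A' → ℂ) = (χ : G → ℂ) 1 := by
    have := classInner_one_of_trivial A' (χ := fun k : K => (χ : G → ℂ) k) fun x =>
      htriv ⟨((x : K) : G), Subgroup.mem_subgroupOf.mp x.2⟩
    simpa using this
  have hsplit : (fun x : A' => (χ : G → ℂ) (x : K)) =
      (fun x : A' => ((fun k : K => (χ : G → ℂ) k) - (η : K → ℂ)) x) + fun x : A' => (η : K → ℂ) x := by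
    funext x
    simp
  rw [hsplit, classInner_add_left, h0, add_zero] at hval
  obtain ⟨d', hd', hle⟩ : ∃ d' : ℕ, ((fun k : K => (χ : G → ℂ) k) - (η : K → ℂ)) 1 = d' ∧ m ≤ d' := by
    refine ⟨d, hd, ?_⟩
    exact classInner_le_degree (isCharacter_comp hr A'.subtype) (oneChar A') hm (by simpa using hd)
  have e1 : (m : ℂ) = (χ : G → ℂ) 1 := by rw [← hval]; exact hm.symm
  obtain ⟨c, hc'⟩ : ∃ c : ℕ, (η : K → ℂ) 1 = c ∧ c ≠ 0 := ⟨_, (charDegree_eq η).1, (charDegree_eq η).2⟩
  have e2 : (χ : G → ℂ) 1 = (d' : ℂ) + c := by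
    rw [← hd', ← hc'.1]
    simp
  have : m = d' + c := by exact_mod_cast e1.trans e2
  omega
where
  classInner_le_degree {H : Type u} [Group H] [Fintype H] {f : H → ℂ} (hf : IsCharacter H f)
      (ψ : IrrCharacter H) {m d : ℕ} (hm : classInner f (ψ : H → ℂ) = m) (hd : f 1 = d) : m ≤ d := by
    classical
    haveI := Fintype.ofFinite (IrrCharacter H)
    choose n hn using fun φ : IrrCharacter H => classInner_char_irr_nat hf φ
    have h1 := congrFun (classFun_expand (isClassFunction_of_isCharacter hf)) 1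
    simp only [Finset.sum_apply, Pi.smul_apply, smul_eq_mul, hn, (charDegree_eq _).1, hd] at h1
    have h2 : d = ∑ φ : IrrCharacter H, n φ * charDegree (φ : H → ℂ) := by exact_mod_cast h1
    have hmn : n ψ = m := by exact_mod_cast (hn ψ).symm.trans hm
    rw [h2, ← hmn]
    exact (Nat.le_mul_of_pos_right _ (Nat.pos_of_ne_zero (charDegree_eq ψ).2)).trans
      (Finset.single_le_sum (f := fun φ => n φ * charDegree (φ : H → ℂ)) (fun _ _ => Nat.zero_le _)
        (Finset.mem_univ ψ))

end Kernel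

section Rep

/-- An action by automorphisms on a commutative group of exponent `p`, linearly. -/
def autEnd {Γ W : Type u} [Group Γ] [CommGroup W] [Module (ZMod p) (Additive W)] (c : Γ →* MulAut W) :
    Γ →* Module.End (ZMod p) (Additive W) where
  toFun g := AddMonoidHom.toZModLinearMap p (MonoidHom.toAdditive (c g).toMonoidHom)
  map_one' := LinearMap.ext fun x => by
    show Additive.ofMul (c 1 (Additive.toMul x)) = x
    rw [map_one]
    rfl
  map_mul' g h := LinearMap.ext fun x => by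
    show Additive.ofMul (c (g * h) (Additive.toMul x)) = Additive.ofMul (c g (c h (Additive.toMul x)))
    rw [map_mul]
    rfl

theorem autEnd_apply {Γ W : Type u} [Group Γ] [CommGroup W] [Module (ZMod p) (Additive W)]
    (c : Γ →* MulAut W) (g : Γ) (x : Additive W) :
    autEnd (p := p) c g x = Additive.ofMul (c g (Additive.toMul x)) := rfl

/-- From the automorphism action to the linear statement. -/
theorem card_eq_three_of_aut {Γ W : Type u} [Group Γ] [Fintype Γ] [CommGroup W] [Finite W]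
    [Fact p.Prime] [Module (ZMod p) (Additive W)] [Nontrivial (Additive W)] {K : Subgroup Γ} [K.Normal]
    (c : Γ →* MulAut W) (hker : ∀ g, g ∈ K ↔ c g = 1)
    (htrans : ∀ v w : W, v ≠ 1 → w ≠ 1 → ∃ g, c g v = w) (hp2 : p ≠ 2) (hidx : ¬ p ∣ K.index)
    (Good : Γ ⧸ K → Prop)
    (hclass : ∀ x y, x ≠ 1 → y ≠ 1 → Good x → Good y → IsConj x y)
    (hcyc : ∀ x : Γ ⧸ K, IsCyclic (Subgroup.centralizer ({x} : Set (Γ ⧸ K))) → Good x)
    (hpar : ∀ s : ℕ, s.Prime → (∀ e, e ≠ 1 → (∃ k, orderOf e = s ^ k) → ¬ Good e) →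
      Even (K.index.factorization s))
    (hsq : ∀ g, g ≠ 1 → Good g → ∀ x : ℕ, K.index = (Nat.card W - 1) * x → IsSquare x) :
    Nat.card W = 3 := by
  have hle : K ≤ (autEnd (p := p) c).ker := fun k hk => MonoidHom.mem_ker.mpr (LinearMap.ext fun x => by
    rw [autEnd_apply, (hker k).mp hk]
    rfl)
  have hW : Nat.card (Additive W) = Nat.card W := Nat.card_congr Additive.toMul
  let ρ : Γ ⧸ K →* Module.End (ZMod p) (Additive W) := QuotientGroup.lift K (autEnd c) hle
  have hinj : Function.Injective ρ := by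
    rw [← MonoidHom.ker_eq_bot_iff, eq_bot_iff]
    intro e he
    obtain ⟨g, rfl⟩ := QuotientGroup.mk_surjective e
    refine Subgroup.mem_bot.mpr ((QuotientGroup.eq_one_iff g).mpr ((hker g).mpr (MulEquiv.ext fun w => ?_)))
    have h : autEnd (p := p) c g = 1 := he
    have h2 := autEnd_apply (p := p) c g (Additive.ofMul w)
    rw [h, Module.End.one_apply] at h2
    exact (Additive.ofMul.injective h2).symm
  have htr : ∀ v w : Additive W, v ≠ 0 → w ≠ 0 → ∃ e, ρ e v = w := by
    intro v w hv hw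
    obtain ⟨g, hg⟩ := htrans (Additive.toMul v) (Additive.toMul w)
      (fun h => hv (Additive.toMul.injective h)) (fun h => hw (Additive.toMul.injective h))
    exact ⟨(g : Γ ⧸ K), (autEnd_apply c g v).trans (congrArg Additive.ofMul hg)⟩
  rw [← hW]
  exact card_eq_three (ρ := ρ)
    { hp := hp2
      hcop := by rwa [← Subgroup.index_eq_card]
      inj := hinj
      trans := htr
      Good := Good
      classEq := hclass
      cyclic := hcyc
      parity := fun s hs hbad => by
        rw [← Subgroup.index_eq_card]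
        exact hpar s hs hbad
      square := fun g hg hgood v hv => hsq g hg hgood _ (by
        rw [Subgroup.index_eq_card, card_eq_mul_stab ρ htr hv, hW]) }

end Rep

section Setup

variable {G : Type u} [Group G] [Fintype G] {A K : Subgroup G} [A.Normal] [K.Normal] [Fintype K]
  [Fact p.Prime]

theorem isSquare_of_mul_sq_eq {x y z : ℕ} (hy : y ≠ 0) (h : x * y ^ 2 = z ^ 2) : IsSquare x := by
  have hd : y ∣ z := (Nat.pow_dvd_pow_iff two_ne_zero).mp ⟨x, by rw [← h, mul_comm]⟩
  obtain ⟨w, rfl⟩ := hd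
  exact ⟨w, Nat.eq_of_mul_eq_mul_right (pow_pos (Nat.pos_of_ne_zero hy) 2) (by rw [h]; ring)⟩

theorem card_two_bound (hM : IsPModular p M) {B : Set (IrrCharacter G)} (hB : IsPBlock M B)
    (hD : IsDefectGroup p M B A) (hab : ∀ a ∈ A, ∀ c ∈ A, a * c = c * a) (hk : Nat.card B = 3) :
    p ≠ 2 := by
  classical
  haveI := Fintype.ofFinite (IrrCharacter G)
  rintro rfl
  have hd : 2 ≤ blockDefect 2 B := by
    by_contra h
    have := card_le_bfBound hM _ G B hB rfl
    rw [hk, bfBound, if_pos (by omega)] at this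
    have := this.trans (Nat.pow_le_pow_right two_pos (show blockDefect 2 B ≤ 1 by omega))
    omega
  have hall := (NormalDefect.abelian_iff_height_zero hM hB hD).mp hab
  have h4 := pow_dvd_sum_redDeg_sq hM hB le_rfl hd
  set s := Finset.univ.filter (fun χ : IrrCharacter G => χ ∈ B ∧ blockHeight 2 B (χ : G → ℂ) = 0) with hs
  have hs3 : s.card = 3 := by
    rw [← hk, Nat.card_eq_fintype_card, Fintype.card_subtype, hs]
    exact congrArg Finset.card (Finset.filter_congr fun χ _ => ⟨fun h => h.1, fun h => ⟨h, hall χ h⟩⟩)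
  have hodd : ∀ χ ∈ s, redDeg 2 B χ ^ 2 % 4 = 1 := by
    intro χ hχ
    obtain ⟨hχB, h0⟩ := (Finset.mem_filter.mp hχ).2
    obtain ⟨t, ht⟩ : ∃ t, redDeg 2 B χ = 2 * t + 1 :=
      ⟨redDeg 2 B χ / 2, by have := not_dvd_redDeg hM hχB h0; omega⟩
    rw [ht, show (2 * t + 1) ^ 2 = 1 + (t * t + t) * 4 by ring, Nat.add_mul_mod_self_right]
  have h := Nat.mod_eq_zero_of_dvd h4
  rw [show 2 ^ 2 = 4 by norm_num, Finset.sum_nat_mod, Finset.sum_congr rfl hodd, Finset.sum_const, hs3] at h
  simp at h

theorem blockRank_lt (hM : IsPModular p M) {B : Set (IrrCharacter G)} (hB : IsPBlock M B) {a : G}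
    (ha : p ∣ orderOf a) {χ₀ : IrrCharacter G} (hχ₀ : χ₀ ∈ B) (hne : (χ₀ : G → ℂ) a ≠ 0) :
    blockRank p B < Nat.card B := by
  classical
  haveI := Fintype.ofFinite (IrrCharacter G)
  set F : B → G → ℂ := fun χ => pRegularPart p ((χ : IrrCharacter G) : G → ℂ)
  have hrel : ∑ χ : B, conj (((χ : IrrCharacter G) : G → ℂ) a) • F χ = 0 := by
    funext g
    simp only [Finset.sum_apply, Pi.smul_apply, smul_eq_mul, Pi.zero_apply, F, pRegularPart]
    by_cases hg : IsPRegular p g
    · simp only [if_pos hg]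
      have h := blockUnion_orthogonal_regular_singular hM (IsBlockUnion.of_isPBlock hB) hg ha
      rw [finsum_mem_eq_finite_toFinset_sum _ (Set.toFinite B)] at h
      rw [← h, Finset.sum_subtype (p := fun χ : IrrCharacter G => χ ∈ B) _
        (fun χ => Set.Finite.mem_toFinset _) (fun χ => (χ : G → ℂ) g * conj ((χ : G → ℂ) a))]
      exact Fintype.sum_congr _ _ fun χ => mul_comm _ _
    · simp [hg]
  have hnli : ¬ LinearIndependent ℂ F := fun hli =>
    hne (by simpa using Fintype.linearIndependent_iff.mp hli _ hrel ⟨χ₀, hχ₀⟩)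
  have hrange : Set.range F = (fun χ : IrrCharacter G => pRegularPart p (χ : G → ℂ)) '' B := by
    ext f
    simp [F]
  rw [linearIndependent_iff_card_eq_finrank_span, Set.finrank, hrange] at hnli
  have hle : Set.finrank ℂ (Set.range F) ≤ Fintype.card B := finrank_range_le_card F
  rw [Set.finrank, hrange] at hle
  rw [blockRank, Nat.card_eq_fintype_card]
  omega

/-- The main case. -/
theorem three_invariant (hM : IsPModular p M) {B : Set (IrrCharacter G)} (hB : IsPBlock M B)
    (hD : IsDefectGroup p M B A) (hab : ∀ a ∈ A, ∀ c ∈ A, a * c = c * a) (hk : Nat.card B = 3)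
    (hAK : A ≤ K) (hKc : ∀ k ∈ K, ∀ a ∈ A, k * a = a * k)
    (hcent : ∀ g : G, (∀ a ∈ A, g * a = a * g) → g ∈ K) (hidx : ¬ p ∣ K.index)
    (θ : IrrCharacter K) (hinv : ∀ g : G, Char.conjFun K (θ : K → ℂ) g = θ)
    (hθA : ∀ a : A, (θ : K → ℂ) ⟨a, hAK a.2⟩ = (θ : K → ℂ) 1)
    (hup : ∀ χ : IrrCharacter G, Over χ θ → χ ∈ B)
    (hdown : ∀ χ ∈ B, (∀ a : A, (χ : G → ℂ) a = (χ : G → ℂ) 1) → Over χ θ) :
    Nat.card A = 3 := by
  classical
  have hp : p.Prime := Fact.out
  haveI := Fintype.ofFinite (IrrCharacter G)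
  haveI := Fintype.ofFinite A
  have hA1 : A ≠ ⊥ := fun h => by
    have h1 := defectGroup_card hM hB hD
    rw [h, Subgroup.card_bot] at h1
    have h0 : blockDefect p B = 0 :=
      ((Nat.pow_eq_one).mp h1.symm).resolve_left hp.ne_one
    rw [(rank_card_of_defect_zero hM hB h0).1] at hk
    omega
  have hp2 : p ≠ 2 := card_two_bound hM hB hD hab hk
  have hAp : IsPGroup p A := isPGroup_defectGroup hM hB hD
  obtain ⟨a₀, ha₀, ha₀1⟩ := (Subgroup.bot_or_exists_ne_one A).resolve_left hA1
  have hsing : ∀ a ∈ A, a ≠ 1 → p ∣ orderOf a := fun a ha ha1 => by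
    obtain ⟨j, hj⟩ := (IsPGroup.iff_orderOf.mp hAp) ⟨a, ha⟩
    rw [Subgroup.orderOf_mk] at hj
    rw [hj]
    exact dvd_pow_self p fun h0 => ha1 (orderOf_eq_one_iff.mp (by rw [hj, h0, pow_zero]))
  have htriv : ∀ χ : IrrCharacter G, Over χ θ → ∀ a : A, (χ : G → ℂ) a = (χ : G → ℂ) 1 := by
    intro χ h a
    have h1 := res_eq hinv h ⟨a, hAK a.2⟩
    have h2 := res_eq hinv h 1
    rw [OneMemClass.coe_one] at h2
    rw [h1, h2, hθA a]
  obtain ⟨χ₀, hχ₀⟩ := exists_over hinv
  -- regular rank
  have hl : blockRank p B < 3 := hk ▸ blockRank_lt hM hB (hsing a₀ ha₀ ha₀1) (hup χ₀ hχ₀) (by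
    rw [show (χ₀ : G → ℂ) a₀ = (χ₀ : G → ℂ) 1 from htriv χ₀ hχ₀ ⟨a₀, ha₀⟩]
    exact Char.irr_one_ne_zero χ₀)
  have hl1 := FreeInertial.one_le_blockRank (p := p) hp.ne_one (B := B) (isPBlock_nonempty hB)
  rcases (show blockRank p B = 1 ∨ blockRank p B = 2 by omega) with h1 | h1
  · rw [(Cfsg.Agent.S4648.result p M hM B hB A hD hA1 h1 (by omega)).2.1, hk]
  have hconj : ∀ x ∈ A, x ≠ 1 → ∀ y ∈ A, y ≠ 1 → IsConj x y := fun x hx hx1 y hy hy1 =>
    (OneMore.conj_of_card_eq hM hB (by omega) hD hx hx1).1 y hy hy1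
  have hexp : ∀ a ∈ A, a ^ p = 1 :=
    OneMore.pow_eq_one_of_conj hp hAp fun x hx y hy hx1 hy1 => hconj x hx hx1 y hy hy1
  -- the vector space and the action
  letI : CommGroup A := { (inferInstance : Group A) with
    mul_comm := fun a c => Subtype.ext (hab a a.2 c c.2) }
  have hexpV : ∀ x : Additive A, p • x = 0 := fun x => by
    apply Additive.toMul.injective
    rw [toMul_nsmul, toMul_zero]
    exact Subtype.ext (hexp _ (Additive.toMul x).2)
  letI : Module (ZMod p) (Additive A) := AddCommGroup.zmodModule hexpV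
  haveI : Nontrivial (Additive A) :=
    ⟨⟨Additive.ofMul ⟨a₀, ha₀⟩, 0, fun h => ha₀1 (congrArg (fun x => ((Additive.toMul x : A) : G)) h)⟩⟩
  -- sums of squares
  set S : Finset (IrrCharacter G) := Finset.univ.filter (· ∈ B) with hS
  have hS3 : S.card = 3 := by rw [← hk, Nat.card_eq_fintype_card, Fintype.card_subtype]
  set S₁ := S.filter (fun χ : IrrCharacter G => Over χ θ) with hS₁
  set S₂ := S.filter (fun χ : IrrCharacter G => ¬ Over χ θ) with hS₂
  have hS12 : S₁.card + S₂.card = 3 := hS3 ▸ Finset.card_filter_add_card_filter_not _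
  have hover : Nat.card {χ : IrrCharacter G // Over χ θ} = S₁.card := by
    rw [Nat.card_eq_fintype_card, Fintype.card_subtype]
    refine congrArg Finset.card (Finset.ext fun χ => ?_)
    simp only [hS₁, hS, Finset.mem_filter, Finset.mem_univ, true_and]
    exact ⟨fun h => ⟨hup χ h, h⟩, fun h => h.2⟩
  set D : IrrCharacter G → ℕ := fun χ => charDegree (χ : G → ℂ) with hDdef
  set q := Nat.card A with hq
  have hnon : ∀ χ ∈ S₂, ((q - 1 : ℕ) : ℂ) * (χ : G → ℂ) a₀ = -(D χ : ℂ) := by
    intro χ hχ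
    obtain ⟨hχS, hχn⟩ := Finset.mem_filter.mp hχ
    have h0 : classInner (fun a : A => (χ : G → ℂ) a) (oneChar A : A → ℂ) = 0 := by
      by_contra h
      exact hχn (hdown χ (Finset.mem_filter.mp hχS).2 (trivial_of_inner_ne_zero A χ h))
    have hval : ∀ a : A, a ≠ 1 → (χ : G → ℂ) a = (χ : G → ℂ) a₀ := fun a ha => by
      obtain ⟨g, hg⟩ := isConj_iff.mp (hconj a₀ ha₀ ha₀1 a a.2 fun h => ha (Subtype.ext h))
      rw [← hg, isClassFunction_irr χ]
    rw [classInner, mul_eq_zero] at h0
    have h2 := h0.resolve_left (inv_ne_zero (Nat.cast_ne_zero.mpr Nat.card_pos.ne'))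
    rw [← Finset.add_sum_erase _ _ (Finset.mem_univ (1 : A)),
      Finset.sum_congr rfl (g := fun _ => (χ : G → ℂ) a₀) fun a ha => by
        simp [oneChar, hval a (Finset.ne_of_mem_erase ha)],
      Finset.sum_const, Finset.card_erase_of_mem (Finset.mem_univ _), Finset.card_univ,
      ← Nat.card_eq_fintype_card, ← hq, nsmul_eq_mul] at h2
    simp only [oneChar, OneMemClass.coe_one, map_one, mul_one, (charDegree_eq χ).1] at h2
    exact eq_neg_of_add_eq_zero_right h2
  have hsum : ((q - 1) * ∑ χ ∈ S₁, D χ ^ 2 : ℕ) = ∑ χ ∈ S₂, D χ ^ 2 := by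
    have h := blockUnion_orthogonal_regular_singular hM (IsBlockUnion.of_isPBlock hB) (g := (1 : G))
      (by simp [hp.ne_one]) (hsing a₀ ha₀ ha₀1)
    rw [finsum_mem_eq_finite_toFinset_sum _ (Set.toFinite B),
      show (Set.toFinite B).toFinset = S from Finset.ext fun χ => by simp [hS],
      ← Finset.sum_filter_add_sum_filter_not S (fun χ : IrrCharacter G => Over χ θ)] at h
    have e1 : ∑ χ ∈ S₁, (χ : G → ℂ) 1 * conj ((χ : G → ℂ) a₀) = ((∑ χ ∈ S₁, D χ ^ 2 : ℕ) : ℂ) := by
      push_cast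
      refine Finset.sum_congr rfl fun χ hχ => ?_
      rw [show (χ : G → ℂ) a₀ = (χ : G → ℂ) 1 from htriv χ (Finset.mem_filter.mp hχ).2 ⟨a₀, ha₀⟩,
        (charDegree_eq χ).1, map_natCast, pow_two]
    have e2 : ((q - 1 : ℕ) : ℂ) * ∑ χ ∈ S₂, (χ : G → ℂ) 1 * conj ((χ : G → ℂ) a₀) =
        -((∑ χ ∈ S₂, D χ ^ 2 : ℕ) : ℂ) := by
      push_cast
      rw [Finset.mul_sum, ← Finset.sum_neg_distrib]
      refine Finset.sum_congr rfl fun χ hχ => ?_
      have h3 := congrArg conj (hnon χ hχ)
      rw [map_mul, map_natCast, map_neg, map_natCast] at h3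
      rw [(charDegree_eq χ).1, mul_left_comm, h3]
      ring
    have h4 := congrArg (fun x : ℂ => ((q - 1 : ℕ) : ℂ) * x) h
    simp only [mul_zero, mul_add] at h4
    rw [e1, e2, ← sub_eq_add_neg, sub_eq_zero] at h4
    exact_mod_cast h4
  have hS2pos : S₂.card ≠ 0 := by
    intro h0
    rw [Finset.card_eq_zero] at h0
    rw [h0, Finset.sum_empty, mul_eq_zero] at hsum
    rcases hsum with h | h
    · have : 1 < q := (Finset.one_lt_card (s := (Finset.univ : Finset A))).mpr
        ⟨⟨a₀, ha₀⟩, Finset.mem_univ _, 1, Finset.mem_univ _, fun e => ha₀1 (congrArg Subtype.val e)⟩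
        |> fun h' => by rwa [Finset.card_univ, ← Nat.card_eq_fintype_card] at h'
      omega
    · have hm : χ₀ ∈ S₁ := Finset.mem_filter.mpr
        ⟨Finset.mem_filter.mpr ⟨Finset.mem_univ _, hup χ₀ hχ₀⟩, hχ₀⟩
      exact (charDegree_eq χ₀).2 (pow_eq_zero_iff two_ne_zero |>.mp (Finset.sum_eq_zero_iff.mp h χ₀ hm))
  have hthree : ∀ x y : G ⧸ K, x ≠ 1 → GoodQ θ x → GoodQ θ y → y ≠ 1 → IsConj x y := by
    intro x y hx hgx hgy hy
    by_contra hxy
    have h := card_le_over hinv (ι := Fin 3) ![1, x, y]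
      (fun i => by fin_cases i <;> [exact good_one hinv; exact hgx; exact hgy])
      (fun i j h => by
        fin_cases i <;> fin_cases j
        all_goals first
          | rfl
          | exact absurd (isConj_one_right.mp h) hx
          | exact absurd (isConj_one_right.mp h) hy
          | exact absurd (isConj_one_left.mp h) hx
          | exact absurd (isConj_one_left.mp h) hy
          | exact absurd h hxy
          | exact absurd h.symm hxy)
    rw [hover, Fintype.card_fin] at h
    omega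
  have hsquare : ∀ g : G ⧸ K, g ≠ 1 → GoodQ θ g → ∀ x : ℕ, K.index = (Nat.card A - 1) * x →
      IsSquare x := by
    intro g hg1 hgood x hx
    have h2 := card_le_over hinv (ι := Fin 2) ![1, g]
      (fun i => by fin_cases i <;> [exact good_one hinv; exact hgood])
      (fun i j h => by
        fin_cases i <;> fin_cases j
        all_goals first
          | rfl
          | exact absurd (isConj_one_right.mp h) hg1
          | exact absurd (isConj_one_left.mp h) hg1)
    rw [hover, Fintype.card_fin] at h2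
    obtain ⟨χ₃, hχ₃⟩ := Finset.card_eq_one.mp (show S₂.card = 1 by omega)
    rw [hχ₃, Finset.sum_singleton] at hsum
    have hdeg : ∑ χ ∈ S₁, D χ ^ 2 = K.index * charDegree (θ : K → ℂ) ^ 2 := by
      have hS₁' : ∀ χ ∈ S₁, D χ ^ 2 = multOver θ χ ^ 2 * charDegree (θ : K → ℂ) ^ 2 := by
        intro χ hχ
        have h := res_eq hinv (Finset.mem_filter.mp hχ).2 1
        rw [OneMemClass.coe_one, (charDegree_eq χ).1, (charDegree_eq θ).1, ← Nat.cast_mul,
          Nat.cast_inj] at h
        simp only [hDdef, h, mul_pow]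
      rw [Finset.sum_congr rfl hS₁', ← Finset.sum_mul, ← index_eq_sum hinv]
      congr 1
      refine Finset.sum_subset (Finset.subset_univ _) fun χ _ hχ => ?_
      by_contra hne
      have ho : Over χ θ := (over_iff θ χ).mpr fun h0 => hne (by rw [h0, zero_pow two_ne_zero])
      exact hχ (Finset.mem_filter.mpr ⟨Finset.mem_filter.mpr ⟨Finset.mem_univ _, hup χ ho⟩, ho⟩)
    rw [hdeg, hx, ← hq] at hsum
    refine isSquare_of_mul_sq_eq (y := (q - 1) * charDegree (θ : K → ℂ)) (z := D χ₃) ?_ ?_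
    · refine mul_ne_zero (fun h0 => ?_) (charDegree_eq θ).2
      rw [← hq, h0, zero_mul] at hx
      exact Subgroup.index_ne_zero_of_finite hx
    · rw [← hsum]; ring
  refine card_eq_three_of_aut (p := p) (MulAut.conjNormal (H := A)) (fun g => ⟨fun hg => ?_, fun hg => ?_⟩)
    (fun v w hv hw => ?_) hp2 hidx (GoodQ θ) (fun x y hx hy hgx hgy => hthree x y hx hgx hgy hy)
    (fun x hx => good_of_cyclic hinv hx) (fun s hs hbad => even_of_bad hinv hs hbad) hsquare
  · refine MulEquiv.ext fun a => Subtype.ext ?_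
    rw [MulAut.conjNormal_apply, hKc g hg a a.2, mul_inv_cancel_right]
    rfl
  · refine hcent g fun a ha => ?_
    have h := congrArg (fun f : MulAut A => ((f ⟨a, ha⟩ : A) : G)) hg
    rw [MulAut.conjNormal_apply] at h
    exact mul_inv_eq_iff_eq_mul.mp h
  · obtain ⟨g, hg⟩ := isConj_iff.mp (hconj _ v.2 (fun h => hv (Subtype.ext h)) _ w.2
      (fun h => hw (Subtype.ext h)))
    exact ⟨g, Subtype.ext (by rw [MulAut.conjNormal_apply]; exact hg)⟩

end Setup

end CfsgLib.Block.ThreeChar
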