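import Cfsg.Agent.Lib.Block.ThreeChar.Action
import Cfsg.Agent.Lib.Char.Zsigmondy.Main

/-!
# Transitive groups with two good classes

`card_eq_three`: if a group of order prime to `p` is transitive on the nonzero vectors and its good
nonidentity elements form one class, containing every element with cyclic centralizer, then the
space has order three.
-/

set_option autoImplicit false
set_option linter.unusedSectionVars false
set_option linter.style.haveILetI false

namespace CfsgLib.Block.ThreeChar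

open Module CfsgLib.Char

universe u v

variable {p : ℕ} [Fact p.Prime] {E : Type u} [Group E] [Finite E] {V : Type v} [AddCommGroup V]
  [Module (ZMod p) V] [Finite V] [Nontrivial V]

/-- The assumptions on the linear group and on its good elements. -/
structure GoodSetup (p : ℕ) [Fact p.Prime] {E : Type u} [Group E] [Finite E] {V : Type v}
    [AddCommGroup V] [Module (ZMod p) V] [Finite V] (ρ : E →* Module.End (ZMod p) V) where
  hp : p ≠ 2
  hcop : ¬ p ∣ Nat.card E
  inj : Function.Injective ρ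
  trans : ∀ v w : V, v ≠ 0 → w ≠ 0 → ∃ e, ρ e v = w
  Good : E → Prop
  classEq : ∀ x y, x ≠ 1 → y ≠ 1 → Good x → Good y → IsConj x y
  cyclic : ∀ x, IsCyclic (Subgroup.centralizer ({x} : Set E)) → Good x
  parity : ∀ s : ℕ, s.Prime → (∀ e, e ≠ 1 → (∃ k, orderOf e = s ^ k) → ¬ Good e) →
    Even ((Nat.card E).factorization s)
  square : ∀ g, g ≠ 1 → Good g → ∀ v : V, v ≠ 0 → IsSquare (Nat.card (stab ρ v))

variable {ρ : E →* Module.End (ZMod p) V}

theorem card_eq_pow (V : Type v) [AddCommGroup V] [Module (ZMod p) V] [Finite V] :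
    Nat.card V = p ^ finrank (ZMod p) V := by
  rw [Module.natCard_eq_pow_finrank (K := ZMod p), Nat.card_zmod]

theorem orderOf_eq_of_conj {a b : E} (h : IsConj a b) : orderOf a = orderOf b := by
  obtain ⟨c, rfl⟩ := isConj_iff.mp h
  exact (orderOf_conj_eq c a).symm
where
  orderOf_conj_eq (c a : E) : orderOf (c * a * c⁻¹) = orderOf a :=
    (SemiconjBy.conj_mk c a).orderOf_eq _ |>.symm

theorem centralizer_le_of_mem_zpowers {a b : E} (h : a ∈ Subgroup.zpowers b) :
    Subgroup.centralizer ({b} : Set E) ≤ Subgroup.centralizer ({a} : Set E) := by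
  intro e he
  obtain ⟨i, rfl⟩ := h
  rw [Subgroup.mem_centralizer_singleton_iff] at he ⊢
  exact (Commute.zpow_right (he : Commute e b) i).eq

theorem isCyclic_centralizer_of_le {a b : E}
    (h : Subgroup.centralizer ({b} : Set E) ≤ Subgroup.centralizer ({a} : Set E))
    (hc : IsCyclic (Subgroup.centralizer ({a} : Set E))) :
    IsCyclic (Subgroup.centralizer ({b} : Set E)) :=
  isCyclic_of_injective (Subgroup.inclusion h) (Subgroup.inclusion_injective h)

/-- Every element having `g` among its powers, in a cyclic group, generates over `g`. -/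
theorem exists_gen {g : E} (hc : IsCyclic (Subgroup.centralizer ({g} : Set E))) :
    ∃ c : E, g ∈ Subgroup.zpowers c ∧ Subgroup.zpowers c = Subgroup.centralizer ({g} : Set E) ∧
      IsCyclic (Subgroup.centralizer ({c} : Set E)) ∧ orderOf g ∣ orderOf c ∧
      orderOf c = Nat.card (Subgroup.centralizer ({g} : Set E)) := by
  obtain ⟨⟨c, hcm⟩, hgen⟩ := hc.exists_generator
  have heq : Subgroup.zpowers c = Subgroup.centralizer ({g} : Set E) := by
    refine le_antisymm (Subgroup.zpowers_le.mpr hcm) fun x hx => ?_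
    obtain ⟨i, hi⟩ := hgen ⟨x, hx⟩
    exact ⟨i, congrArg Subtype.val hi⟩
  have hg : g ∈ Subgroup.zpowers c := by
    rw [heq, Subgroup.mem_centralizer_singleton_iff]
  refine ⟨c, hg, heq, isCyclic_centralizer_of_le (centralizer_le_of_mem_zpowers hg) hc, ?_, ?_⟩
  · obtain ⟨i, rfl⟩ := hg
    rw [← Nat.card_zpowers c, ← Nat.card_zpowers (c ^ i)]
    exact Subgroup.card_dvd_of_le (Subgroup.zpowers_le.mpr ⟨i, rfl⟩)
  · rw [← heq, Nat.card_zpowers]

section

variable (S : GoodSetup p ρ)
include S

theorem pow_sub_one_dvd : p ^ finrank (ZMod p) V - 1 ∣ Nat.card E := by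
  obtain ⟨v, hv⟩ := exists_ne (0 : V)
  rw [card_eq_mul_stab ρ S.trans hv, card_eq_pow (p := p) V]
  exact dvd_mul_right _ _

/-- A good element with a cyclic centralizer generates its centralizer. -/
theorem card_centralizer_eq_order {g : E} (hg1 : g ≠ 1)
    (hc : IsCyclic (Subgroup.centralizer ({g} : Set E))) :
    Nat.card (Subgroup.centralizer ({g} : Set E)) = orderOf g := by
  obtain ⟨c, hg, -, hcc, -, hcard⟩ := exists_gen hc
  have hc1 : c ≠ 1 := by
    rintro rfl
    exact hg1 (by simpa using hg)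
  rw [← hcard]
  exact orderOf_eq_of_conj (S.classEq c g hc1 hg1 (S.cyclic c hcc) (S.cyclic g hc))

theorem finrank_one_case (h : finrank (ZMod p) V = 1) : Nat.card V = 3 := by
  classical
  have hirr : ∀ g, Irred ρ g := fun g W _ => by
    rcases Nat.eq_zero_or_pos (finrank (ZMod p) W) with h0 | h0
    · exact Or.inl (Submodule.finrank_eq_zero.mp h0)
    · exact Or.inr (Submodule.eq_top_of_finrank_eq (by
        have := Submodule.finrank_le W
        omega))
  have hgood : ∀ g, S.Good g := fun g => S.cyclic g (isCyclic_centralizer ρ S.inj (hirr g))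
  haveI := isCyclic_centralizer ρ S.inj (hirr 1)
  have hcomm : ∀ a b : E, a * b = b * a := fun a b => by
    letI : CommGroup (Subgroup.centralizer ({(1 : E)} : Set E)) := IsCyclic.commGroup
    have hm : ∀ a : E, a ∈ Subgroup.centralizer ({(1 : E)} : Set E) := fun a =>
      Subgroup.mem_centralizer_singleton_iff.mpr (by simp)
    exact congrArg Subtype.val
      (mul_comm (⟨a, hm a⟩ : Subgroup.centralizer ({(1 : E)} : Set E)) ⟨b, hm b⟩)
  have h2 : Nat.card E ≤ 2 := by
    by_contra h3
    haveI := Fintype.ofFinite E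
    rw [Nat.card_eq_fintype_card] at h3
    obtain ⟨a, b, c, hab, hac, hbc⟩ := Fintype.two_lt_card_iff.mp (Nat.lt_of_not_le h3)
    have key : ∀ x y : E, x ≠ 1 → y ≠ 1 → x = y := fun x y hx hy => by
      obtain ⟨t, ht⟩ := isConj_iff.mp (S.classEq x y hx hy (hgood x) (hgood y))
      rwa [hcomm t x, mul_inv_cancel_right] at ht
    by_cases ha : a = 1
    · exact hbc (key b c (fun e => hab (ha.trans e.symm)) (fun e => hac (ha.trans e.symm)))
    by_cases hb : b = 1
    · exact hac (key a c ha (fun e => hbc (hb.trans e.symm)))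
    exact hab (key a b ha hb)
  have hd := pow_sub_one_dvd S
  rw [h, pow_one] at hd
  have hle := Nat.le_of_dvd Nat.card_pos hd
  have := (Fact.out : p.Prime).two_le
  have := S.hp
  rw [card_eq_pow (p := p) V, h, pow_one]
  omega

/-- The facts about an element of primitive prime order. -/
theorem prim_element {s : ℕ} (hs : s.Prime) (hsE : s ∣ p ^ finrank (ZMod p) V - 1)
    (hprim : ∀ k, 0 < k → k < finrank (ZMod p) V → ¬ s ∣ p ^ k - 1) :
    ∃ g : E, orderOf g = s ∧ Irred ρ g ∧ Nat.card (Subgroup.centralizer ({g} : Set E)) = s ∧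
      ∀ x, x ≠ 1 → S.Good x → orderOf x = s := by
  haveI : Fact s.Prime := ⟨hs⟩
  have hdvd : s ∣ Nat.card E := hsE.trans (pow_sub_one_dvd S)
  obtain ⟨g, hg⟩ := exists_prime_orderOf_dvd_card' (G := E) s hdvd
  have hirr := irred_of_prim ρ S.inj hg (fun h => S.hcop (h ▸ hdvd)) hprim
  have hc := isCyclic_centralizer ρ S.inj hirr
  have hg1 : g ≠ 1 := fun h => hs.ne_one (by rw [← hg, h, orderOf_one])
  refine ⟨g, hg, hirr, (card_centralizer_eq_order S hg1 hc).trans hg, fun x hx hgx => ?_⟩
  rw [orderOf_eq_of_conj (S.classEq x g hx hg1 hgx (S.cyclic g hc)), hg]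

/-- The arithmetic of a primitive prime. -/
theorem prim_bounds {s : ℕ} (hs : s.Prime) (hsE : s ∣ p ^ finrank (ZMod p) V - 1)
    (hprim : ∀ k, 0 < k → k < finrank (ZMod p) V → ¬ s ∣ p ^ k - 1) :
    ¬ s ^ 2 ∣ p ^ finrank (ZMod p) V - 1 ∧ s ≤ finrank (ZMod p) V + 1 := by
  classical
  haveI : Fact s.Prime := ⟨hs⟩
  obtain ⟨g, hg, hirr, hcard, hall⟩ := prim_element S hs hsE hprim
  have hg1 : g ≠ 1 := fun h => hs.ne_one (by rw [← hg, h, orderOf_one])
  refine ⟨fun h2 => ?_, ?_⟩
  · have hE := h2.trans (pow_sub_one_dvd S)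
    obtain ⟨T, hT⟩ := Sylow.exists_subgroup_card_pow_prime s hE
    letI := IsPGroup.commGroupOfCardEqPrimeSq (p := s) hT
    obtain ⟨⟨x, hxT⟩, hx⟩ := exists_prime_orderOf_dvd_card' (G := T) s (by rw [hT]; exact dvd_pow_self s two_ne_zero)
    rw [Subgroup.orderOf_mk] at hx
    have hx1 : x ≠ 1 := fun h => hs.ne_one (by rw [← hx, h, orderOf_one])
    have hxirr := irred_of_prim ρ S.inj hx
      (fun h => S.hcop (h ▸ (dvd_pow_self s two_ne_zero).trans hE)) hprim
    have hxc := card_centralizer_eq_order S hx1 (isCyclic_centralizer ρ S.inj hxirr)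
    have hle : T ≤ Subgroup.centralizer ({x} : Set E) := fun t ht =>
      Subgroup.mem_centralizer_singleton_iff.mpr (congrArg Subtype.val (mul_comm (⟨t, ht⟩ : T) ⟨x, hxT⟩))
    have := Subgroup.card_le_of_le hle
    rw [hT, hxc, hx] at this
    nlinarith [hs.two_le]
  · haveI := Fintype.ofFinite E
    haveI := Fintype.ofFinite (Subgroup.zpowers g)
    set T : Finset E := Finset.univ.filter fun x => x ∈ Subgroup.zpowers g ∧ x ≠ 1 with hT
    have h1 : T.card + 1 = s := by
      have : insert 1 T = Finset.univ.filter fun x => x ∈ Subgroup.zpowers g := by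
        ext x
        simp only [hT, Finset.mem_insert, Finset.mem_filter, Finset.mem_univ, true_and]
        exact ⟨fun h => h.elim (fun e => e ▸ one_mem _) (·.1),
          fun h => or_iff_not_imp_left.mpr fun h1 => ⟨h, h1⟩⟩
      rw [← Finset.card_insert_of_notMem (s := T) (a := 1) (by simp [hT]), this, ← hg,
        ← Fintype.card_subtype, ← Nat.card_eq_fintype_card]
      exact Nat.card_zpowers g
    have h2 := card_conjugates_le ρ S.inj hirr T fun x hx => by
      simp only [hT, Finset.mem_filter, Finset.mem_univ, true_and] at hx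
      obtain ⟨⟨i, rfl⟩, hx1⟩ := hx
      refine ⟨Commute.self_zpow g i, S.classEq _ _ hg1 hx1 (S.cyclic _ (isCyclic_centralizer ρ S.inj hirr))
        (S.cyclic _ ?_)⟩
      have horder : orderOf (g ^ i) = s := by
        have hd : Nat.card (Subgroup.zpowers (g ^ i)) ∣ Nat.card (Subgroup.zpowers g) :=
          Subgroup.card_dvd_of_le (Subgroup.zpowers_le.mpr ⟨i, rfl⟩)
        rw [Nat.card_zpowers, Nat.card_zpowers, hg] at hd
        exact (hs.eq_one_or_self_of_dvd _ hd).resolve_left fun h => hx1 (orderOf_eq_one_iff.mp h)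
      exact isCyclic_centralizer ρ S.inj (irred_of_prim ρ S.inj horder
        (fun h => S.hcop (h ▸ hsE.trans (pow_sub_one_dvd S))) hprim)
    omega

theorem exists_neg (hn : 0 < finrank (ZMod p) V)
    (harith : ∀ k, 0 < k → k < finrank (ZMod p) V →
      ¬ 2 ^ (p ^ finrank (ZMod p) V - 1).factorization 2 ∣ p ^ k - 1) :
    ∃ z : E, z ≠ 1 ∧ (∀ v, ρ z v = -v) ∧ ∀ e, Commute z e := by
  obtain ⟨z, hz⟩ := exists_neg_one ρ S.hp S.inj hn S.trans (by rwa [card_eq_pow (p := p) V])
  refine ⟨z, fun h => ?_, hz, fun e => S.inj (LinearMap.ext fun w => ?_)⟩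
  · obtain ⟨v, hv⟩ := exists_ne (0 : V)
    have := hz v
    rw [h, map_one, Module.End.one_apply] at this
    have h2 : (2 : ZMod p) • v = 0 := by rw [two_smul]; exact (eq_neg_iff_add_eq_zero.mp this)
    have h20 : (2 : ZMod p) ≠ 0 := by
      have := (ZMod.natCast_eq_zero_iff 2 p).not.mpr (fun hd => S.hp
        ((Nat.prime_dvd_prime_iff_eq Fact.out Nat.prime_two).mp hd))
      exact_mod_cast this
    exact hv ((smul_eq_zero.mp h2).resolve_left h20)
  · rw [map_mul, map_mul, Module.End.mul_apply, Module.End.mul_apply, hz, hz, map_neg]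

/-- A central involution forbids odd primitive primes. -/
theorem no_prim_of_neg {z : E} (hz1 : z ≠ 1) (hz : ∀ v, ρ z v = -v) (hzc : ∀ e, Commute z e) {s : ℕ}
    (hs : s.Prime) (hs2 : s ≠ 2) (hsE : s ∣ p ^ finrank (ZMod p) V - 1)
    (hprim : ∀ k, 0 < k → k < finrank (ZMod p) V → ¬ s ∣ p ^ k - 1) : False := by
  obtain ⟨g, hg, -, hcard, -⟩ := prim_element S hs hsE hprim
  have hzz : z ^ 2 = 1 := by
    refine S.inj (LinearMap.ext fun w => ?_)
    rw [pow_two, map_mul, map_one, Module.End.mul_apply, hz, hz, neg_neg, Module.End.one_apply]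
  have h2 : orderOf z = 2 := orderOf_eq_prime hzz hz1
  have hd : orderOf z ∣ Nat.card (Subgroup.centralizer ({g} : Set E)) :=
    Subgroup.orderOf_dvd_natCard _ (Subgroup.mem_centralizer_singleton_iff.mpr (hzc g).eq)
  rw [h2, hcard] at hd
  exact hs2 ((Nat.prime_dvd_prime_iff_eq Nat.prime_two hs).mp hd).symm

end

end CfsgLib.Block.ThreeChar
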