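import Cfsg.Agent.Lib.Block.ThreeChar.Invariant
import Cfsg.Agent.Lib.Block.NormalDefect
import Cfsg.Agent.Lib.Block.FongReynolds
import Cfsg.Agent.S0968

/-!
# Three characters with a normal abelian defect group

Passage to the inertial group of the canonical character.
-/

set_option autoImplicit false
set_option linter.unusedSectionVars false
set_option linter.style.haveILetI false

namespace CfsgLib.Block.ThreeChar

open Cfsg CfsgLib CfsgLib.Block CfsgLib.Char CfsgLib.Char.FullyRam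
open scoped ComplexConjugate

universe u

variable {p : ℕ} [Fact p.Prime] {M : Ideal AlgInt} [M.IsMaximal] {G : Type u} [Group G] [Fintype G]
  [DecidableEq G] {A : Subgroup G} [A.Normal]

theorem three_normal (hM : IsPModular p M) {B : Set (IrrCharacter G)} (hB : IsPBlock M B)
    (hD : IsDefectGroup p M B A) (hab : ∀ a ∈ A, ∀ c ∈ A, a * c = c * a) (hk : Nat.card B = 3) :
    Nat.card A = 3 := by
  classical
  have hp : p.Prime := Fact.out
  haveI hn : (CQ A).Normal := inferInstanceAs (Subgroup.centralizer (A : Set G)).Normal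
  haveI hKn : (A ⊔ CQ A).Normal := Subgroup.sup_normal A (CQ A)
  letI : Fintype ↥(A ⊔ CQ A) := Fintype.ofFinite _
  haveI := Fintype.ofFinite (IrrCharacter G)
  haveI := Fintype.ofFinite A
  let K : Subgroup G := A ⊔ CQ A
  have hK : K = A ⊔ CQ A := rfl
  obtain ⟨b, hb, hbd, hdown, hup, T₀, hKT₀, hidx₀, hI⟩ := NormalDefect.exists_data hM hB hD
  have hAK : A ≤ K := le_sup_left
  haveI := Fintype.ofFinite (IrrCharacter K)
  have hKcent : K = CQ A := by
    refine sup_eq_right.mpr fun a ha => Subgroup.mem_centralizer_iff.mpr fun c hc => hab c hc a ha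
  have hKc : ∀ k ∈ K, ∀ a ∈ A, k * a = a * k := fun k hk' a ha => by
    rw [hKcent] at hk'
    exact (Subgroup.mem_centralizer_iff.mp hk' a ha).symm
  set A' : Subgroup K := A.subgroupOf K with hA'
  have hA'p : IsPGroup p A' :=
    (isPGroup_defectGroup hM hB hD).of_equiv (Subgroup.subgroupOfEquivOfLe hAK).symm
  have hsup : A' ⊔ Subgroup.centralizer (A' : Set K) = ⊤ := top_unique fun k _ =>
    Subgroup.mem_sup_right (Subgroup.mem_centralizer_iff.mpr fun a ha => Subtype.ext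
      (hKc k k.2 _ (Subgroup.mem_subgroupOf.mp ha)).symm)
  obtain ⟨θ, ⟨hθb, hθA'⟩, huniq⟩ := (Agent.S0968.result p M hM A' hA'p hsup b hb hbd).1
  have hθA : ∀ a : A, (θ : K → ℂ) ⟨a, hAK a.2⟩ = (θ : K → ℂ) 1 := fun a =>
    hθA' _ (Subgroup.mem_subgroupOf.mpr a.2)
  -- conjugates of the canonical character
  have hfix : ∀ g : G, cjN g '' b = b → cjN g θ = θ := by
    intro g hg
    refine huniq _ ⟨hg ▸ Set.mem_image_of_mem _ hθb, fun x hx => ?_⟩
    rw [cjN_apply, cjN_apply]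
    have hm : g⁻¹ * (x : G) * g ∈ A := by
      simpa using (inferInstance : A.Normal).conj_mem _ (Subgroup.mem_subgroupOf.mp hx) g⁻¹
    rw [show (θ : K → ℂ) ⟨g⁻¹ * (x : G) * g, _⟩ = (θ : K → ℂ) 1 from hθA ⟨_, hm⟩]
    exact congrArg _ (Subtype.ext (by simp))
  set T : Subgroup G := Char.inertia K (θ : K → ℂ) with hT0
  have hmemT : ∀ g : G, g ∈ T ↔ cjN g θ = θ := by
    intro g
    rw [hT0, Char.mem_inertia, conjFun_eq_cjN]
    constructor
    · intro h
      have h' : cjN g⁻¹ θ = θ := Subtype.ext h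
      conv_lhs => rw [← h', cjN_cjN, mul_inv_cancel, cjN_one]
    · intro h
      have h' : cjN g⁻¹ θ = θ := by conv_lhs => rw [← h, cjN_cjN, inv_mul_cancel, cjN_one]
      rw [h']
  have hT : ∀ g : G, g ∈ T ↔ cjN g '' b = b := fun g => by
    rw [hmemT g]
    exact ⟨fun h => isPBlock_eq_of_mem (isPBlock_cjN g hb) hb ⟨θ, hθb, h⟩ hθb, hfix g⟩
  have hKT : K ≤ T := Char.le_inertia K (Char.isClassFunction_irr θ)
  have hidxT : ¬ p ∣ K.relIndex T := by
    intro h
    apply hidx₀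
    rw [← Subgroup.relIndex_mul_relIndex K T T₀ hKT (hI θ hθb)]
    exact h.mul_right _
  -- the correspondent
  haveI := Fintype.ofFinite (K.subgroupOf T)
  obtain ⟨χ₀, hχ₀⟩ := isPBlock_nonempty hB
  obtain ⟨θ₀, hθ₀, hc₀⟩ := hdown χ₀ hχ₀
  obtain ⟨ψ₀, hov₀, hind₀⟩ := exists_indFun_eq hKT hM hb hT χ₀ hθ₀ hc₀
  haveI := Fintype.ofFinite (IrrCharacter T)
  set B' : Set (IrrCharacter T) := blockOf M (ψ₀ : T → ℂ) with hB'def
  have hB' : IsPBlock M B' := ⟨ψ₀, rfl⟩
  have hψ₀ : ψ₀ ∈ B' := self_mem_blockOf ψ₀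
  obtain ⟨B₁, hind, -, hov, hmem⟩ := fongReynolds_block hKT hM hb hT hB' ⟨ψ₀, hψ₀, hov₀⟩
  have hB₁ : B₁ = B := isPBlock_eq_of_mem hind.2.1 hB ((hmem χ₀).mpr ⟨ψ₀, hψ₀, hind₀.symm⟩) hχ₀
  rw [hB₁] at hmem
  let F : B' → B := fun ψ => ⟨⟨_, (hov ψ ψ.2).2⟩, (hmem _).mpr ⟨ψ, ψ.2, rfl⟩⟩
  have hFbij : Function.Bijective F := by
    refine ⟨fun ψ η h => Subtype.ext (indFun_injective_of_overB hKT hM hb hT (hov η η.2).1 (hov ψ ψ.2).1
      (congrArg (fun x : B => ((x : IrrCharacter G) : G → ℂ)) h).symm), fun χ => ?_⟩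
    obtain ⟨ψ, hψ, he⟩ := (hmem χ).mp χ.2
    exact ⟨⟨ψ, hψ⟩, Subtype.ext (Subtype.ext he.symm)⟩
  have hk' : Nat.card B' = 3 := (Nat.card_congr (Equiv.ofBijective F hFbij)).trans hk
  have hvT : (Nat.card G).factorization p = T.index.factorization p + (Nat.card T).factorization p := by
    rw [← Subgroup.card_mul_index T, Nat.factorization_mul Nat.card_pos.ne' Subgroup.index_ne_zero_of_finite,
      Finsupp.add_apply, add_comm]
  have hdeg : ∀ ψ : B', degVal p (F ψ : IrrCharacter G) = T.index.factorization p + degVal p (ψ : IrrCharacter T) :=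
    fun ψ => fongReynolds_degree hM (ψ := (ψ : IrrCharacter T)) rfl
  have hdef : blockDefect p B' = blockDefect p B := by
    obtain ⟨ψ₁, hψ₁, he₁⟩ := exists_minDeg (p := p) (isPBlock_nonempty hB')
    obtain ⟨χ₁, hχ₁, he⟩ := exists_minDeg (p := p) (isPBlock_nonempty hB)
    obtain ⟨ψ₂, hψ₂⟩ := hFbij.2 ⟨χ₁, hχ₁⟩
    have h1 := minDeg_le (p := p) (F ⟨ψ₁, hψ₁⟩).2
    have h2 := minDeg_le (p := p) ψ₂.2
    have h3 := hdeg ⟨ψ₁, hψ₁⟩
    have h4 := hdeg ψ₂
    rw [hψ₂] at h4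
    show (Nat.card T).factorization p - minDeg p B' = (Nat.card G).factorization p - minDeg p B
    simp only at h1 h2 h3 h4
    omega
  set AT : Subgroup T := A.subgroupOf T with hAT
  have hAleT : A ≤ T := hAK.trans hKT
  haveI : AT.Normal := Subgroup.Normal.subgroupOf inferInstance T
  have hATp : IsPGroup p AT :=
    (isPGroup_defectGroup hM hB hD).of_equiv (Subgroup.subgroupOfEquivOfLe hAleT).symm
  have hATcard : Nat.card AT = Nat.card A := Nat.card_congr (Subgroup.subgroupOfEquivOfLe hAleT).toEquiv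
  obtain ⟨D', hD'⟩ := exists_defectGroup hM hB'
  have hAD : AT = D' := Subgroup.eq_of_le_of_card_ge (normal_le_defectGroup hM hB' hD' hATp) (by
    rw [hATcard, defectGroup_card hM hB hD, defectGroup_card hM hB' hD', hdef])
  rw [← hATcard]
  set θT : IrrCharacter (K.subgroupOf T) := ⟨_, isIrr_transport θ hKT⟩
  haveI := Fintype.ofFinite AT
  have hover : ∀ ψ : IrrCharacter T, Over ψ θT ↔ classInner (resN hKT (ψ : T → ℂ)) (θ : K → ℂ) ≠ 0 := by
    intro ψ
    rw [Over, ← classInner_equiv (Subgroup.subgroupOfEquivOfLe hKT) (resN hKT (ψ : T → ℂ)) (θ : K → ℂ)]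
    rfl
  refine three_invariant (K := K.subgroupOf T) hM hB' (hAD ▸ hD')
    (fun a ha c hc => Subtype.ext (hab _ ha _ hc)) hk' (fun a ha => hAK ha)
    (fun k hk₁ a ha => Subtype.ext (hKc _ hk₁ _ ha)) (fun g hg => ?_) hidxT θT
    (fun g => ?_) (fun a => ?_) (fun ψ hψ => ?_) (fun ψ hψ htriv => ?_)
  · show (g : G) ∈ K
    rw [hKcent, Subgroup.mem_centralizer_iff]
    intro a ha
    exact (congrArg Subtype.val (hg ⟨a, hAleT ha⟩ ha)).symm
  · exact funext fun x => congrFun ((Char.mem_inertia K _ (g : G)).mp g.2) (Subgroup.subgroupOfEquivOfLe hKT x)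
  · show (θ : K → ℂ) _ = (θ : K → ℂ) _
    rw [map_one]
    exact hθA ⟨((a : T) : G), a.2⟩
  · have hψo : OverB hKT b ψ := ⟨θ, hθb, (hover ψ).mp hψ⟩
    have hirr := isIrrCharacter_indFun_of_overB hKT hM hb hT hψo
    have hin : (⟨_, hirr⟩ : IrrCharacter G) ∈ B := hup _ θ hθb (by
      rw [classInner_indFun_res hKT hM hb hT hψo hθb]
      exact (hover ψ).mp hψ)
    obtain ⟨η, hη, he⟩ := (hmem _).mp hin
    rw [← indFun_injective_of_overB hKT hM hb hT hψo (hov η hη).1 he]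
    exact hη
  · obtain ⟨θ', hθ', hne⟩ := (hov ψ hψ).1
    haveI := Fintype.ofFinite (IrrCharacter (K.subgroupOf T))
    have hne' : classInner (fun x : K.subgroupOf T => (ψ : T → ℂ) x)
        ((⟨_, isIrr_transport θ' hKT⟩ : IrrCharacter (K.subgroupOf T)) : K.subgroupOf T → ℂ) ≠ 0 := by
      rw [← classInner_equiv (Subgroup.subgroupOfEquivOfLe hKT) (resN hKT (ψ : T → ℂ)) (θ' : K → ℂ)] at hne
      exact hne
    have htr := trivial_of_constituent AT (fun a ha => hAK ha) htriv hne'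
    have hθeq : θ' = θ := huniq θ' ⟨hθ', fun x hx => by
      have hxA : (x : G) ∈ A := Subgroup.mem_subgroupOf.mp hx
      have h := htr ⟨⟨(x : G), hAleT hxA⟩, hxA⟩
      simp only [map_one] at h
      exact h⟩
    rw [hover ψ, ← hθeq]
    exact hne

end CfsgLib.Block.ThreeChar
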